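import Cfsg.Agent.Forms.KleinClasses

/-!
# Perfect groups with elementary abelian Sylow 2-subgroup of order eight and an involution
# centraliser `Z₂ × PSL₂(q)`, `q ≡ 3 (mod 8)`
-/

set_option autoImplicit false
set_option linter.style.haveILetI false
set_option linter.unusedSectionVars false

namespace CfsgLib.ReeG2Sylow

universe w

variable {G : Type w} [Group G] [Finite G]

/-- In a perfect group only the identity of an abelian Sylow subgroup is fixed by its normaliser. -/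
theorem eq_one_of_fixed {p : ℕ} [Fact p.Prime] (S : Sylow p G) (hperf : commutator G = ⊤)
    (hab : IsMulCommutative (S : Subgroup G)) {s : G} (hs : s ∈ (S : Subgroup G))
    (hfix : ∀ n ∈ Subgroup.normalizer ((S : Subgroup G) : Set G), n * s * n⁻¹ = s) : s = 1 := by
  classical
  haveI := hab
  letI : CommGroup (S : Subgroup G) := { (S : Subgroup G).toGroup with
    mul_comm := fun a b => (inferInstance : Std.Commutative (α := (S : Subgroup G)) (· * ·)).comm a b }
  have key : ∀ (k : ℕ) (g₀ : G), g₀⁻¹ * s ^ k * g₀ ∈ (S : Subgroup G) →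
      g₀⁻¹ * s ^ k * g₀ = s ^ k := by
    intro k g₀ h
    obtain ⟨n, hn, e⟩ := S.conj_eq_normalizer_conj_of_mem (s ^ k) g₀ (pow_mem hs k) h
    have hc : Commute n⁻¹ s := by
      have := hfix n⁻¹ (inv_mem hn)
      exact mul_inv_eq_iff_eq_mul.1 this
    rw [e, (hc.pow_right k).eq, inv_mul_cancel_right]
  have h := MonoidHom.transfer_eq_pow (MonoidHom.id (S : Subgroup G)) s key
  set τ := MonoidHom.transfer (MonoidHom.id (S : Subgroup G))
  have h1 : τ s = 1 :=
    MonoidHom.mem_ker.1 (Abelianization.commutator_subset_ker τ (hperf ▸ Subgroup.mem_top s))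
  rw [h1] at h
  have hidx : s ^ (S : Subgroup G).index = 1 := congrArg Subtype.val h.symm
  obtain ⟨k, hk⟩ := S.2 ⟨s, hs⟩
  have hk' : s ^ p ^ k = 1 := congrArg Subtype.val hk
  have hcop : Nat.Coprime (p ^ k) (S : Subgroup G).index :=
    ((Fact.out : p.Prime).coprime_iff_not_dvd.2 S.not_dvd_index).pow_left k
  have := Nat.dvd_gcd (orderOf_dvd_of_pow_eq_one hk') (orderOf_dvd_of_pow_eq_one hidx)
  rw [hcop, Nat.dvd_one] at this
  exact orderOf_eq_one_iff.1 this

variable {F : Type*} [Field F] [Fintype F]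

local notation "PSL₂F" => Matrix.ProjectiveSpecialLinearGroup (Fin 2) F
local notation "Z₂" => Multiplicative (ZMod 2)

/-- Sylow subgroup containing the involution. -/
theorem core (hperf : commutator G = ⊤) (S : Sylow 2 G) (hS8 : Nat.card (S : Subgroup G) = 8)
    (hsq : ∀ x ∈ (S : Subgroup G), x * x = 1) (hF : Fintype.card F % 8 = 3 ∨ Fintype.card F % 8 = 5)
    {a : G} (haS : a ∈ (S : Subgroup G)) (ha : a ≠ 1)
    (Φ : Subgroup.centralizer ({a} : Set G) ≃* Z₂ × PSL₂F) :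
    Subgroup.centralizer ((S : Subgroup G) : Set G) = (S : Subgroup G) ∧
      Nat.card (Subgroup.normalizer ((S : Subgroup G) : Set G)) = 168 ∧
      ∀ s ∈ (S : Subgroup G), s ≠ 1 →
        ∃ n ∈ Subgroup.normalizer ((S : Subgroup G) : Set G), n * a * n⁻¹ = s := by
  classical
  haveI : Fact (Nat.Prime 2) := ⟨Nat.prime_two⟩
  set T := (S : Subgroup G) with hT
  have hcomm : ∀ x ∈ T, ∀ y ∈ T, x * y = y * x := fun x hx y hy => by
    have h1 := hsq _ (T.mul_mem hx hy)
    rw [mul_eq_one_iff_eq_inv, mul_inv_rev, inv_eq_of_mul_eq_one_right (hsq x hx),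
      inv_eq_of_mul_eq_one_right (hsq y hy)] at h1
    exact h1
  have hab : IsMulCommutative T := ⟨⟨fun x y => Subtype.ext (hcomm x x.2 y y.2)⟩⟩
  set C := Subgroup.centralizer ({a} : Set G) with hC
  have hTC : T ≤ C := fun x hx => Subgroup.mem_centralizer_singleton_iff.2 (hcomm x hx a haS)
  have hodd : Odd (Fintype.card F) := Nat.odd_iff.2 (by omega)
  have h2 : (2 : F) ≠ 0 := SL2Tori.two_ne_zero_of_odd hodd
  -- the four-group in the projective linear group
  set T' : Subgroup (Z₂ × PSL₂F) := (T.subgroupOf C).map Φ.toMonoidHom with hT'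
  have hmemT' : ∀ (x : C), Φ x ∈ T' ↔ (x : G) ∈ T := fun x => by
    rw [hT', Subgroup.mem_map]
    refine ⟨fun ⟨y, hy, e⟩ => ?_, fun h => ⟨x, h, rfl⟩⟩
    rw [← Φ.injective e]
    exact hy
  have hT'card : Nat.card T' = 8 := by
    rw [hT', Subgroup.card_map_of_injective Φ.injective,
      Nat.card_congr (Subgroup.subgroupOfEquivOfLe hTC).toEquiv, hS8]
  have hT'sq : ∀ y ∈ T', y * y = 1 := by
    rintro _ ⟨x, hx, rfl⟩
    rw [← map_mul, show x * x = 1 from Subtype.ext (hsq x hx), map_one]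
  set V : Subgroup PSL₂F := T'.map (MonoidHom.snd Z₂ PSL₂F) with hV
  have hVsq : ∀ v ∈ V, v * v = 1 := by
    rintro _ ⟨y, hy, rfl⟩
    rw [← map_mul, hT'sq y hy, map_one]
  have hZ2 : Nat.card Z₂ = 2 := by simp
  have hle : T' ≤ (⊤ : Subgroup Z₂).prod V := fun y hy =>
    ⟨Subgroup.mem_top _, ⟨y, hy, rfl⟩⟩
  have hprod : ∀ W : Subgroup PSL₂F, Nat.card ((⊤ : Subgroup Z₂).prod W) = 2 * Nat.card W :=
    fun W => by
      rw [Nat.card_congr ((⊤ : Subgroup Z₂).prodEquiv W).toEquiv, Nat.card_prod, Subgroup.card_top, hZ2]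
  have hV4le : 4 ≤ Nat.card V := by
    have h := Subgroup.card_le_of_le hle
    rw [hprod, hT'card] at h
    omega
  have hV4 : Nat.card V = 4 := by
    have hp : IsPGroup 2 V := fun v => ⟨1, Subtype.ext (by
      simpa [pow_two] using hVsq v v.2)⟩
    obtain ⟨k, hk⟩ := hp.exists_card_eq
    have h8 : ¬ 8 ∣ Nat.card PSL₂F := fun h => by
      have := (Forms.KleinPSL.eight_dvd_iff hodd).1 h
      omega
    have hk2 : k ≤ 2 := by
      by_contra hlt
      exact h8 ((pow_dvd_pow 2 (show 3 ≤ k by omega)).trans (hk ▸ Subgroup.card_subgroup_dvd_card V))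
    have := Nat.pow_le_pow_right (show 2 > 0 by norm_num) hk2
    omega
  have hVK : IsKleinFour V := by
    refine ⟨hV4, ?_⟩
    haveI : Nontrivial V := Finite.one_lt_card_iff_nontrivial.1 (by omega)
    refine (Nat.dvd_prime Nat.prime_two).1 (Monoid.exponent_dvd_of_forall_pow_eq_one fun v =>
      Subtype.ext (by simpa [pow_two] using hVsq v v.2)) |>.resolve_left fun h => ?_
    exact (not_subsingleton V) (Monoid.exp_eq_one_iff.1 h)
  have hT'eq : T' = (⊤ : Subgroup Z₂).prod V :=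
    Subgroup.eq_of_le_of_card_ge hle (by rw [hprod, hV4, hT'card])
  -- centraliser
  have hcent : Subgroup.centralizer (T : Set G) = T := by
    refine le_antisymm (fun x hx => ?_) (fun x hx y hy => hcomm y hy x hx)
    have hxC : x ∈ C := Subgroup.mem_centralizer_singleton_iff.2 (hx a haS).symm
    rw [← hmemT' ⟨x, hxC⟩, hT'eq]
    refine ⟨Subgroup.mem_top _, ?_⟩
    rw [← Forms.KleinPSL.centralizer_eq h2 V hVK]
    intro v hv
    obtain ⟨y, ⟨z, hz, rfl⟩, rfl⟩ := hv
    have := congrArg Prod.snd (congrArg Φ (Subtype.ext (hx z.1 hz) : z * ⟨x, hxC⟩ = ⟨x, hxC⟩ * z))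
    simpa using this
  -- the stabiliser of `a`
  set N := Subgroup.normalizer (T : Set G) with hN
  have hTN : T ≤ N := Subgroup.le_normalizer
  have hNC : ∀ x : C, (x : G) ∈ N ↔ (Φ x).2 ∈ Subgroup.normalizer (V : Set PSL₂F) := by
    intro x
    rw [hN, Subgroup.mem_normalizer_iff, Subgroup.mem_normalizer_iff]
    constructor
    · intro h v
      obtain ⟨y, hy⟩ := Φ.surjective (1, v)
      have e : (Φ x).2 * v * (Φ x).2⁻¹ = (Φ (x * y * x⁻¹)).2 := by simp [hy]
      have ey : (y : G) ∈ T ↔ v ∈ V := by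
        rw [← hmemT' y, hT'eq, hy, Subgroup.mem_prod]
        simp
      have ez : ((x * y * x⁻¹ : C) : G) ∈ T ↔ (Φ x).2 * v * (Φ x).2⁻¹ ∈ V := by
        rw [← hmemT', hT'eq, Subgroup.mem_prod, e]
        simp
      rw [← ey, ← ez]
      exact h y
    · intro h y
      by_cases hyC : y ∈ C
      · have ey : y ∈ T ↔ (Φ ⟨y, hyC⟩).2 ∈ V := by
          rw [← hmemT' ⟨y, hyC⟩, hT'eq, Subgroup.mem_prod]
          simp
        have ez : ((x * ⟨y, hyC⟩ * x⁻¹ : C) : G) ∈ T ↔ (Φ x).2 * (Φ ⟨y, hyC⟩).2 * (Φ x).2⁻¹ ∈ V := by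
          rw [← hmemT', hT'eq, Subgroup.mem_prod]
          simp
        rw [ey]
        exact (h _).trans ez.symm
      · refine iff_of_false (fun hy => hyC (hTC hy)) fun hy => hyC ?_
        have h1 := C.mul_mem (C.mul_mem (C.inv_mem x.2) (hTC hy)) x.2
        rwa [show (x : G)⁻¹ * ((x : G) * y * (x : G)⁻¹) * (x : G) = y by group] at h1
  set M := N ⊓ C with hM
  have hMcard : Nat.card M = 24 := by
    have hmap : (M.subgroupOf C).map Φ.toMonoidHom =
        (⊤ : Subgroup Z₂).prod (Subgroup.normalizer (V : Set PSL₂F)) := by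
      ext y
      obtain ⟨x, rfl⟩ := Φ.surjective y
      rw [Subgroup.mem_prod]
      constructor
      · rintro ⟨z, hz, e⟩
        obtain rfl := Φ.injective e
        exact ⟨Subgroup.mem_top _, (hNC z).1 hz.1⟩
      · rintro ⟨-, h⟩
        exact ⟨x, ⟨(hNC x).2 h, x.2⟩, rfl⟩
    have h := congrArg (fun H : Subgroup (Z₂ × PSL₂F) => Nat.card H) hmap
    rw [Subgroup.card_map_of_injective Φ.injective,
      Nat.card_congr (Subgroup.subgroupOfEquivOfLe (inf_le_right : M ≤ C)).toEquiv, hprod,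
      Forms.KleinPSL.card_normalizer hodd V hVK, if_neg (by omega)] at h
    exact h
  -- no point other than the powers of `a` is fixed by an element outside `T`
  have hfix : ∀ x ∈ M, ∀ s ∈ T, s ≠ 1 → s ≠ a → x * s = s * x → x ∈ T := by
    intro x hx s hs hs1 hsa hxs
    rw [← hmemT' ⟨x, hx.2⟩, hT'eq]
    refine ⟨Subgroup.mem_top _, ?_⟩
    have hpN : (Φ ⟨x, hx.2⟩).2 ∈ Subgroup.normalizer (V : Set PSL₂F) := (hNC ⟨x, hx.2⟩).1 hx.1
    have hv : (Φ ⟨s, hTC hs⟩).2 ∈ V :=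
      ⟨_, (hmemT' ⟨s, hTC hs⟩).2 hs, rfl⟩
    have hv1 : (Φ ⟨s, hTC hs⟩).2 ≠ 1 := by
      intro e
      have haC : a ∈ C := hTC haS
      have hac : ∀ y : C, y * ⟨a, haC⟩ = ⟨a, haC⟩ * y := fun y =>
        Subtype.ext (Subgroup.mem_centralizer_singleton_iff.1 y.2)
      have ha2 : (Φ ⟨a, haC⟩).2 = 1 := by
        by_contra hne
        have hcen : ∀ p : PSL₂F, p * (Φ ⟨a, haC⟩).2 = (Φ ⟨a, haC⟩).2 * p := fun p => by
          obtain ⟨y, hy⟩ := Φ.surjective (1, p)
          have := congrArg Prod.snd (congrArg Φ (hac y))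
          simpa [hy] using this
        have hmemV : (Φ ⟨a, haC⟩).2 ∈ V := ⟨_, (hmemT' ⟨a, haC⟩).2 haS, rfl⟩
        obtain ⟨φ, ⟨n, rfl⟩, hφ, hφ3⟩ := Forms.KleinPSL.exists_order_three h2 V hVK
        refine hφ (Forms.KleinPSL.mulAut_eq_one_of_fix hV4 _ hφ3
          (v := ⟨_, hmemV⟩) (fun h => hne (congrArg Subtype.val h)) (Subtype.ext ?_))
        show (n : PSL₂F) * (Φ ⟨a, haC⟩).2 * (n : PSL₂F)⁻¹ = (Φ ⟨a, haC⟩).2
        rw [hcen, mul_inv_cancel_right]
      have h1 : (Φ ⟨a, haC⟩).1 ≠ 1 := fun h => ha (congrArg Subtype.val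
        (Φ.injective ((Prod.ext h ha2 : Φ ⟨a, haC⟩ = 1).trans (map_one Φ).symm)))
      have h3 : (Φ ⟨s, hTC hs⟩).1 ≠ 1 := fun h => hs1 (congrArg Subtype.val
        (Φ.injective ((Prod.ext h e : Φ ⟨s, hTC hs⟩ = 1).trans (map_one Φ).symm)))
      have h4 : ∀ i j : Z₂, i ≠ 1 → j ≠ 1 → i = j := fun i j hi hj =>
        ((Nat.card_eq_two_iff' (1 : Z₂)).1 hZ2).unique hi hj
      exact hsa (congrArg Subtype.val (Φ.injective (Prod.ext (h4 _ _ h3 h1) (e.trans ha2.symm) :
        Φ ⟨s, hTC hs⟩ = Φ ⟨a, haC⟩)))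
    have hcom : (Φ ⟨x, hx.2⟩).2 * (Φ ⟨s, hTC hs⟩).2 = (Φ ⟨s, hTC hs⟩).2 * (Φ ⟨x, hx.2⟩).2 := by
      have h0 : (⟨x, hx.2⟩ : C) * ⟨s, hTC hs⟩ = ⟨s, hTC hs⟩ * ⟨x, hx.2⟩ := Subtype.ext hxs
      have h1 := congrArg Φ h0
      rw [map_mul, map_mul] at h1
      exact congrArg Prod.snd h1
    set p := (Φ ⟨x, hx.2⟩).2
    set φ := V.normalizerMonoidHom ⟨p, hpN⟩ with hφ
    have hrange : Nat.card V.normalizerMonoidHom.range = 3 := by
      have h := Forms.KleinPSL.card_normalizer_eq h2 V hVK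
      rw [Forms.KleinPSL.card_normalizer hodd V hVK, if_neg (by omega)] at h
      omega
    have h3 : φ ^ 3 = 1 := by
      have := pow_card_eq_one' (x := (⟨φ, ⟨_, rfl⟩⟩ : V.normalizerMonoidHom.range))
      rw [hrange] at this
      exact congrArg Subtype.val this
    have hφ1 : φ = 1 := Forms.KleinPSL.mulAut_eq_one_of_fix hV4 φ h3
      (v := ⟨_, hv⟩) (fun h => hv1 (congrArg Subtype.val h)) (Subtype.ext (by
        show p * (Φ ⟨s, hTC hs⟩).2 * p⁻¹ = (Φ ⟨s, hTC hs⟩).2
        rw [hcom, mul_inv_cancel_right]))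
    have hker : (⟨p, hpN⟩ : Subgroup.normalizer (V : Set PSL₂F)) ∈ V.normalizerMonoidHom.ker :=
      MonoidHom.mem_ker.2 hφ1
    rw [Forms.KleinPSL.ker_normalizerHom h2 V hVK] at hker
    exact hker
  -- the orbit of `a`
  letI := Fintype.ofFinite T
  haveI : Fintype N := Fintype.ofFinite N
  have hconj : ∀ n ∈ N, ∀ s ∈ T, n * s * n⁻¹ ∈ T := fun n hn s hs =>
    (Subgroup.mem_normalizer_iff.1 hn s).1 hs
  set O : Finset T := Finset.univ.filter fun s : T => ∃ n ∈ N, n * a * n⁻¹ = (s : G) with hO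
  have hmemO : ∀ s : T, s ∈ O ↔ ∃ n ∈ N, n * a * n⁻¹ = (s : G) := fun s => by simp [hO]
  have hNcard : Nat.card N = O.card * 24 := by
    let f : N → T := fun n => ⟨n.1 * a * n.1⁻¹, hconj _ n.2 a haS⟩
    have h := Finset.card_eq_sum_card_fiberwise (f := f) (s := Finset.univ) (t := O)
      (fun n _ => (hmemO _).2 ⟨n.1, n.2, rfl⟩)
    rw [Finset.card_univ, ← Nat.card_eq_fintype_card] at h
    rw [h, Finset.sum_congr rfl fun s hs => ?_, Finset.sum_const, smul_eq_mul]
    obtain ⟨n₀, hn₀, e₀⟩ := (hmemO s).1 hs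
    rw [← Fintype.card_subtype, ← Nat.card_eq_fintype_card, ← hMcard]
    refine Nat.card_congr ⟨fun n => ⟨n₀⁻¹ * n.1.1, ?_⟩, fun m => ⟨⟨n₀ * m.1, N.mul_mem hn₀ m.2.1⟩, ?_⟩,
      fun n => ?_, fun m => ?_⟩
    · refine ⟨N.mul_mem (N.inv_mem hn₀) n.1.2, Subgroup.mem_centralizer_singleton_iff.2 ?_⟩
      have hn : n.1.1 * a * n.1.1⁻¹ = n₀ * a * n₀⁻¹ := (congrArg Subtype.val n.2).trans e₀.symm
      calc n₀⁻¹ * n.1.1 * a = n₀⁻¹ * (n.1.1 * a * n.1.1⁻¹) * n.1.1 := by group
        _ = a * (n₀⁻¹ * n.1.1) := by rw [hn]; group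
    · refine Subtype.ext ?_
      show n₀ * m.1 * a * (n₀ * m.1)⁻¹ = (s : G)
      rw [← e₀, show n₀ * m.1 * a * (n₀ * m.1)⁻¹ = n₀ * (m.1 * a) * m.1⁻¹ * n₀⁻¹ by group,
        Subgroup.mem_centralizer_singleton_iff.1 m.2.2]
      group
    · exact Subtype.ext (Subtype.ext (mul_inv_cancel_left n₀ n.1.1))
    · exact Subtype.ext (inv_mul_cancel_left n₀ m.1)
  have hOodd : O.card % 2 = 1 := by
    have h1 : (T.subgroupOf N).index * 8 = Nat.card N := by
      rw [← (T.subgroupOf N).index_mul_card, Nat.card_congr (Subgroup.subgroupOfEquivOfLe hTN).toEquiv, hS8]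
    have h2 : ¬ 2 ∣ (T.subgroupOf N).index := fun h =>
      S.not_dvd_index (h.trans (Subgroup.relIndex_dvd_index_of_le hTN))
    omega
  have haO : (⟨a, haS⟩ : T) ∈ O := (hmemO _).2 ⟨1, one_mem _, by simp⟩
  have hO7 : O.card ≤ 7 := by
    have h1 : O ⊆ Finset.univ.erase (1 : T) := fun s hs => by
      refine Finset.mem_erase.2 ⟨fun e => ?_, Finset.mem_univ _⟩
      obtain ⟨n, -, en⟩ := (hmemO s).1 hs
      rw [e, OneMemClass.coe_one] at en
      exact ha (conj_eq_one_iff.1 en)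
    have h2 := Finset.card_le_card h1
    rw [Finset.card_erase_of_mem (Finset.mem_univ _), Finset.card_univ, ← Nat.card_eq_fintype_card,
      hS8] at h2
    omega
  -- the orbits of the stabiliser have length three
  obtain ⟨r, hrM, hrT⟩ : ∃ r ∈ M, r ∉ T := by
    by_contra hno
    push Not at hno
    have := Subgroup.card_le_of_le (show M ≤ T from hno)
    omega
  let f : T → T := fun s => ⟨r * s.1 * r⁻¹, hconj r hrM.1 s.1 s.2⟩
  have hfix' : ∀ s : T, (s : G) ≠ 1 → (s : G) ≠ a → f s ≠ s := fun s h1 h2 e =>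
    hrT (hfix r hrM s.1 s.2 h1 h2 (mul_inv_eq_iff_eq_mul.1 (congrArg Subtype.val e)))
  have hfO : ∀ s ∈ O, f s ∈ O := fun s hs => by
    obtain ⟨n, hn, e⟩ := (hmemO s).1 hs
    refine (hmemO _).2 ⟨r * n, N.mul_mem hrM.1 hn, ?_⟩
    show r * n * a * (r * n)⁻¹ = r * s.1 * r⁻¹
    rw [← e]; group
  have hfinj : Function.Injective f := fun s s' e => Subtype.ext
    (mul_left_cancel (mul_right_cancel (congrArg Subtype.val e)))
  have hfa : f ⟨a, haS⟩ = ⟨a, haS⟩ := Subtype.ext (by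
    show r * a * r⁻¹ = a
    rw [Subgroup.mem_centralizer_singleton_iff.1 hrM.2, mul_inv_cancel_right])
  have hff : ∀ s : T, (s : G) ≠ 1 → (s : G) ≠ a → f (f s) ≠ s := by
    intro s h1 h2 e
    have hr2 : r * r ∈ M := M.mul_mem hrM hrM
    have h3 : r * r ∈ T := hfix _ hr2 s.1 s.2 h1 h2 (mul_inv_eq_iff_eq_mul.1 (by
      have := congrArg Subtype.val e
      simp only [f] at this
      rw [mul_inv_rev]
      simpa [mul_assoc] using this))
    -- `r` has odd order modulo `T`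
    have hidx : (T.subgroupOf M).index = 3 := by
      have h := (T.subgroupOf M).card_mul_index
      rw [Nat.card_congr (Subgroup.subgroupOfEquivOfLe (le_inf hTN hTC : T ≤ M)).toEquiv, hS8, hMcard] at h
      omega
    haveI : (T.subgroupOf M).Normal := ⟨fun x hx g => hconj g.1 g.2.1 x.1 hx⟩
    set q := QuotientGroup.mk' (T.subgroupOf M) ⟨r, hrM⟩
    have hq2 : q ^ 2 = 1 := by
      rw [← map_pow]
      exact (QuotientGroup.eq_one_iff _).2 (show ((⟨r, hrM⟩ : M) ^ 2 : M).1 ∈ T by rw [pow_two]; exact h3)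
    have hq3 : q ^ 3 = 1 := by
      rw [← hidx, Subgroup.index_eq_card]
      exact pow_card_eq_one'
    rw [pow_succ, hq2, one_mul] at hq3
    exact hrT ((QuotientGroup.eq_one_iff (⟨r, hrM⟩ : M)).1 hq3)
  have hOcard : O.card = 7 := by
    have h1 : O.card ≠ 1 := by
      intro h
      refine ha (eq_one_of_fixed S hperf hab haS fun n hn => ?_)
      obtain ⟨s, hs⟩ := Finset.card_eq_one.1 h
      have e1 : (⟨n * a * n⁻¹, hconj n hn a haS⟩ : T) ∈ O := (hmemO _).2 ⟨n, hn, rfl⟩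
      rw [hs, Finset.mem_singleton] at haO e1
      exact congrArg Subtype.val (e1.trans haO.symm)
    obtain ⟨s, hsO, hsa⟩ : ∃ s ∈ O, s ≠ ⟨a, haS⟩ := by
      by_contra hno
      push Not at hno
      exact h1 (Finset.card_eq_one.2 ⟨⟨a, haS⟩, Finset.eq_singleton_iff_unique_mem.2 ⟨haO, hno⟩⟩)
    have hne : ∀ s : T, s ∈ O → (s : G) ≠ 1 := fun s hs e => by
      obtain ⟨n, -, en⟩ := (hmemO s).1 hs
      exact ha (conj_eq_one_iff.1 (en.trans e))
    have hnea : ∀ s : T, s ≠ ⟨a, haS⟩ → (s : G) ≠ a := fun s h e => h (Subtype.ext e)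
    have hfs : f s ≠ ⟨a, haS⟩ := fun e => hsa (hfinj (e.trans hfa.symm))
    have hffs : f (f s) ≠ ⟨a, haS⟩ := fun e => hfs (hfinj (e.trans hfa.symm))
    have d1 := hfix' s (hne s hsO) (hnea s hsa)
    have d2 := hff s (hne s hsO) (hnea s hsa)
    have d3 := hfix' (f s) (hne _ (hfO _ hsO)) (hnea _ hfs)
    set A : Finset T := {⟨a, haS⟩, s, f s, f (f s)} with hA
    have hAcard : A.card = 4 := by
      rw [hA, Finset.card_insert_of_notMem, Finset.card_insert_of_notMem, Finset.card_pair] <;>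
        simp [Ne.symm d1, Ne.symm d2, Ne.symm d3, Ne.symm hsa, Ne.symm hfs, Ne.symm hffs]
    have hAO : A ⊆ O := by
      intro x hx
      simp only [hA, Finset.mem_insert, Finset.mem_singleton] at hx
      rcases hx with rfl | rfl | rfl | rfl
      exacts [haO, hsO, hfO _ hsO, hfO _ (hfO _ hsO)]
    have h4 := Finset.card_le_card hAO
    obtain ⟨u, huO, huA⟩ := Finset.exists_of_ssubset (Finset.ssubset_iff_subset_ne.2 ⟨hAO, fun e => by
      rw [← e] at hOodd; omega⟩)
    simp only [hA, Finset.mem_insert, Finset.mem_singleton, not_or] at huA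
    obtain ⟨u1, u2, u3, u4⟩ := huA
    have hfu : f u ≠ ⟨a, haS⟩ := fun e => u1 (hfinj (e.trans hfa.symm))
    have hffu : f (f u) ≠ ⟨a, haS⟩ := fun e => hfu (hfinj (e.trans hfa.symm))
    have e1 := hfix' u (hne u huO) (hnea u u1)
    have e2 := hff u (hne u huO) (hnea u u1)
    have e3 := hfix' (f u) (hne _ (hfO _ huO)) (hnea _ hfu)
    -- `f` has order three on the points
    have hcyc : ∀ x : T, f (f (f x)) = x := by
      intro x
      refine Subtype.ext ?_
      show r * (r * (r * x.1 * r⁻¹) * r⁻¹) * r⁻¹ = x.1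
      have hr3 : r * r * r ∈ T := by
        have hidx : (T.subgroupOf M).index = 3 := by
          have h := (T.subgroupOf M).card_mul_index
          rw [Nat.card_congr (Subgroup.subgroupOfEquivOfLe (le_inf hTN hTC : T ≤ M)).toEquiv, hS8,
            hMcard] at h
          omega
        haveI : (T.subgroupOf M).Normal := ⟨fun x hx g => hconj g.1 g.2.1 x.1 hx⟩
        have hq3 : QuotientGroup.mk' (T.subgroupOf M) (⟨r, hrM⟩ * ⟨r, hrM⟩ * ⟨r, hrM⟩) = 1 := by
          rw [map_mul, map_mul, ← pow_two, ← pow_succ]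
          show _ ^ 3 = 1
          rw [← hidx, Subgroup.index_eq_card]
          exact pow_card_eq_one'
        let y : M := ⟨r, hrM⟩
        exact (QuotientGroup.eq_one_iff (y * y * y)).1 hq3
      rw [show r * (r * (r * x.1 * r⁻¹) * r⁻¹) * r⁻¹ = r * r * r * x.1 * (r * r * r)⁻¹ by group,
        hcomm _ hr3 _ x.2, mul_inv_cancel_right]
    have m1 : f u ≠ s := fun e => u4 (by rw [← hcyc u, e])
    have m2 : f u ≠ f s := fun e => u2 (hfinj e)
    have m3 : f u ≠ f (f s) := fun e => u3 (hfinj e)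
    have m4 : f (f u) ≠ s := fun e => u3 (by rw [← hcyc u, e])
    have m5 : f (f u) ≠ f s := fun e => m1 (hfinj e)
    have m6 : f (f u) ≠ f (f s) := fun e => m2 (hfinj e)
    have hB : insert u (insert (f u) (insert (f (f u)) A)) ⊆ O :=
      Finset.insert_subset huO (Finset.insert_subset (hfO _ huO)
        (Finset.insert_subset (hfO _ (hfO _ huO)) hAO))
    have h7 := Finset.card_le_card hB
    rw [Finset.card_insert_of_notMem, Finset.card_insert_of_notMem, Finset.card_insert_of_notMem,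
      hAcard] at h7 <;>
      first
        | omega
        | simp [hA, u1, u2, u3, u4, hfu, hffu, Ne.symm e1, Ne.symm e2, Ne.symm e3,
            m1, m2, m3, m4, m5, m6]
  refine ⟨hcent, by rw [hNcard, hOcard], fun s hs hs1 => ?_⟩
  have heq : O = Finset.univ.erase (1 : T) := by
    refine Finset.eq_of_subset_of_card_le (fun x hx => ?_) ?_
    · refine Finset.mem_erase.2 ⟨fun e => ?_, Finset.mem_univ _⟩
      obtain ⟨n, -, en⟩ := (hmemO x).1 hx
      rw [e, OneMemClass.coe_one] at en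
      exact ha (conj_eq_one_iff.1 en)
    · rw [Finset.card_erase_of_mem (Finset.mem_univ _), Finset.card_univ, ← Nat.card_eq_fintype_card,
        hS8, hOcard]
  exact (hmemO ⟨s, hs⟩).1 (heq ▸ Finset.mem_erase.2 ⟨fun e => hs1 (congrArg Subtype.val e),
    Finset.mem_univ _⟩)

/-- Self-centralising Sylow 2-subgroups with normalisers of order 168. -/
theorem main_of_abelian (hperf : commutator G = ⊤) (S : Sylow 2 G) (hS8 : Nat.card (S : Subgroup G) = 8)
    (hsq : ∀ x ∈ (S : Subgroup G), x * x = 1) (hF : Fintype.card F % 8 = 3 ∨ Fintype.card F % 8 = 5)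
    {a : G} (ha : a ≠ 1) (haa : a * a = 1)
    (Φ : Subgroup.centralizer ({a} : Set G) ≃* Z₂ × PSL₂F) :
    Subgroup.centralizer ((S : Subgroup G) : Set G) = (S : Subgroup G) ∧
      Nat.card (Subgroup.normalizer ((S : Subgroup G) : Set G)) = 168 ∧
      ∀ s t : G, s ≠ 1 → s * s = 1 → t ≠ 1 → t * t = 1 → IsConj s t := by
  haveI : Fact (Nat.Prime 2) := ⟨Nat.prime_two⟩
  -- every involution is conjugate into `S`
  have hinto : ∀ b : G, b * b = 1 → ∃ g : G, g * b * g⁻¹ ∈ (S : Subgroup G) := by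
    intro b hb
    have hp : IsPGroup 2 (Subgroup.zpowers b) := by
      obtain ⟨i, -, hi⟩ := (Nat.dvd_prime_pow Nat.prime_two).1
        (show orderOf b ∣ 2 ^ 1 by rw [pow_one]; exact orderOf_dvd_of_pow_eq_one ((pow_two b).trans hb))
      exact IsPGroup.of_card (n := i) (by rw [Nat.card_zpowers, hi])
    obtain ⟨Q, hQ⟩ := hp.exists_le_sylow
    obtain ⟨g, rfl⟩ := MulAction.exists_smul_eq G S Q
    refine ⟨g⁻¹, ?_⟩
    have := hQ (Subgroup.mem_zpowers b)
    rw [Sylow.coe_subgroup_smul, Subgroup.mem_pointwise_smul_iff_inv_smul_mem] at this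
    simpa using this
  obtain ⟨g, hg⟩ := hinto a haa
  set a' := g * a * g⁻¹ with ha'
  have hmap : (Subgroup.centralizer ({a} : Set G)).map (MulAut.conj g).toMonoidHom =
      Subgroup.centralizer ({a'} : Set G) := by
    ext x
    simp only [Subgroup.mem_map, MulEquiv.coe_toMonoidHom, MulAut.conj_apply,
      Subgroup.mem_centralizer_singleton_iff]
    constructor
    · rintro ⟨y, hy, rfl⟩
      rw [ha', show g * y * g⁻¹ * (g * a * g⁻¹) = g * (y * a) * g⁻¹ by group, hy]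
      group
    · intro hx
      refine ⟨g⁻¹ * x * g, ?_, by group⟩
      rw [ha'] at hx
      calc g⁻¹ * x * g * a = g⁻¹ * (x * (g * a * g⁻¹)) * g := by group
        _ = a * (g⁻¹ * x * g) := by rw [hx]; group
  let Φ' : Subgroup.centralizer ({a'} : Set G) ≃* Z₂ × PSL₂F :=
    ((MulEquiv.subgroupCongr hmap).symm.trans
      (Subgroup.equivMapOfInjective _ (MulAut.conj g).toMonoidHom (MulAut.conj g).injective).symm).trans Φ
  obtain ⟨h1, h2, h3⟩ := core hperf S hS8 hsq hF hg (fun e => ha (conj_eq_one_iff.1 e)) Φ'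
  refine ⟨h1, h2, fun s t hs hs2 ht ht2 => ?_⟩
  have key : ∀ b : G, b ≠ 1 → b * b = 1 → IsConj a' b := fun b hb hb2 => by
    obtain ⟨h, hh⟩ := hinto b hb2
    obtain ⟨n, -, en⟩ := h3 _ hh fun e => hb (conj_eq_one_iff.1 e)
    exact (isConj_iff.2 ⟨n, en⟩).trans (isConj_iff.2 ⟨h, rfl⟩).symm
  exact (key s hs hs2).symm.trans (key t ht ht2)

/-- The case `q ≡ 3 (mod 8)`. -/
theorem main (hperf : commutator G = ⊤) (S : Sylow 2 G) (hS8 : Nat.card (S : Subgroup G) = 8)
    (hsq : ∀ x ∈ (S : Subgroup G), x * x = 1) (hF : Fintype.card F % 8 = 3)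
    {a : G} (ha : a ≠ 1) (haa : a * a = 1)
    (Φ : Subgroup.centralizer ({a} : Set G) ≃* Z₂ × PSL₂F) :
    Subgroup.centralizer ((S : Subgroup G) : Set G) = (S : Subgroup G) ∧
      Nat.card (Subgroup.normalizer ((S : Subgroup G) : Set G)) = 168 ∧
      ∀ s t : G, s ≠ 1 → s * s = 1 → t ≠ 1 → t * t = 1 → IsConj s t :=
  main_of_abelian hperf S hS8 hsq (Or.inl hF) ha haa Φ

end CfsgLib.ReeG2Sylow
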