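import Cfsg.Agent.ReeG2Sylow.Twisted
import Cfsg.Agent.ReeG2.Group

/-!
The Bruhat form and the order of the small Ree group, as the Sylow file wants them.
-/

set_option autoImplicit false
set_option linter.unusedSectionVars false
set_option linter.style.haveILetI false

namespace CfsgLib.ReeG2Sylow

open Cfsg.Lie CfsgLib.Chevalley CfsgLib.ReeG2

variable {K : Type*} [Field K] [Fintype K] [CharP K 3] {m : ℕ}

theorem hasForm (hK : Fintype.card K = 3 ^ (2 * m + 1)) : HasForm K m := by
  intro g hg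
  rcases fixed_form (by rw [Nat.card_eq_fintype_card, hK]) hg with
    ⟨-, t, a, b, B, e⟩ | ⟨-, t, a, b, B, t', a', b', e⟩
  · exact Or.inl ⟨t, a, b, B ^ 3 ^ m, B, e⟩
  · exact Or.inr ⟨t, a, b, B ^ 3 ^ m, B, t', a', b', e⟩

theorem card_twisted (hK : Fintype.card K = 3 ^ (2 * m + 1)) :
    Nat.card ↥(twistedG2 K (3 ^ m)) =
      Fintype.card K ^ 3 * (Fintype.card K - 1) * (Fintype.card K ^ 3 + 1) := by
  rw [natCard_tw (by rw [Nat.card_eq_fintype_card, hK]), hK]
  ring

/-- The field has characteristic three. -/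
theorem charP_three {F : Type*} [Field F] [Fintype F] (hK : Fintype.card F = 3 ^ (2 * m + 1)) :
    CharP F 3 := by
  obtain ⟨p, hp⟩ := CharP.exists F
  haveI := hp
  obtain ⟨n, hpp, hn⟩ := FiniteField.card F p
  have h : p ∣ 3 ^ (2 * m + 1) := by
    rw [← hK, hn]
    exact dvd_pow_self p n.ne_zero
  obtain rfl := (Nat.prime_dvd_prime_iff_eq hpp Nat.prime_three).1 (hpp.dvd_of_dvd_pow h)
  exact hp

end CfsgLib.ReeG2Sylow
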