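import Cfsg.Agent.ReeG2Sylow.SLHom

/-!
The centraliser of the involution `hh (-1) (-1)` in the fixed points, given the Bruhat form.
-/

set_option autoImplicit false
set_option linter.unusedSectionVars false

namespace CfsgLib.ReeG2Sylow

open Cfsg.Lie CfsgLib.Chevalley CfsgLib.ReeG2
open scoped MatrixGroups

variable {K : Type*} [Field K] [CharP K 3] {m : ℕ}

/-- The involution of the torus. -/
def a0 : ↥(GG K) := hh (-1) (-1)

omit [CharP K 3] in
theorem a0_mul_self : (a0 : ↥(GG K)) * a0 = 1 := by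
  rw [a0, hh_mul, neg_mul_neg, one_mul, hh_one]

theorem neg_one_ne_one : (-1 : Kˣ) ≠ 1 := by
  intro h
  have h1 : (-1 : K) = 1 := by simpa using congrArg Units.val h
  exact two_ne (K := K) (by linear_combination -h1)

theorem a0_ne_one : (a0 : ↥(GG K)) ≠ 1 := fun h =>
  neg_one_ne_one (K := K) (hh_inj (h.trans hh_one.symm)).1

omit [CharP K 3] in
theorem a0_conj_xG (r : R0) (t : K) :
    a0 * xG r t * a0⁻¹ = xG r ((chiOf (-1 : Kˣ) (-1) r : K) * t) := hh_conj _ _ r t

theorem a0_conj_uElt (A b c d e f : K) :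
    a0 * uElt A b c d e f * a0⁻¹ = uElt (-A) (-b) c (-d) e (-f) := by
  obtain ⟨h7, h6, h8, h9, h10, h11⟩ := chi_table (-1 : Kˣ) (-1)
  have hc : ∀ p q x y z w : ↥(GG K), a0 * (p * q * (x * y * z * w)) * a0⁻¹ =
      (a0 * p * a0⁻¹) * (a0 * q * a0⁻¹) * ((a0 * x * a0⁻¹) * (a0 * y * a0⁻¹) * (a0 * z * a0⁻¹) *
        (a0 * w * a0⁻¹)) := fun p q x y z w => by group
  simp only [uElt, tail]
  rw [hc]
  simp only [a0_conj_xG]
  rw [h7, h6, h8, h9, h10, h11]
  simp [pow_succ]

theorem a0_conj_wordU (t u v : K) :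
    a0 * wordU m t u v * a0⁻¹ = wordU m (-t) u (-v) := by
  rw [wordU, wordU, a0_conj_uElt, theta_neg, theta_neg]
  congr 1 <;> ring

theorem a0_comm_psi (g : SL(2, K)) : Commute a0 (psi m g) := by
  obtain ⟨-, -, h8, -, h10, -⟩ := chi_table (-1 : Kˣ) (-1)
  have h8' : chiOf (-1 : Kˣ) (-1) (rt 8) = 1 := by rw [h8]; simp
  have h10' : chiOf (-1 : Kˣ) (-1) (rt 10) = 1 := by rw [h10]; simp [pow_succ]
  have key : ∀ r : R0, chiOf (-1 : Kˣ) (-1) r = 1 → ∀ t : K, Commute a0 (xG r t) := fun r hr t => by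
    refine mul_inv_eq_iff_eq_mul.1 ?_
    rw [a0_conj_xG, hr, Units.val_one, one_mul]
  have key' : ∀ r : R0, chiOf (-1 : Kˣ) (-1) r = 1 → ∀ t : K, Commute a0 (xG r.rev t) := fun r hr t => by
    refine key r.rev ?_ t
    have hcart : ∀ s : R0, chevG2.cartan 0 s.rev = -chevG2.cartan 0 s ∧
        chevG2.cartan 1 s.rev = -chevG2.cartan 1 s := by decide +kernel
    rw [chiOf_eq, (hcart r).1, (hcart r).2, zpow_neg, zpow_neg, ← mul_inv, ← chiOf_eq, hr, inv_one]
  exact (commute_phi (key _ h8') (key' _ h8') _).mul_right (commute_phi (key _ h10') (key' _ h10') _)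

omit [CharP K 3] in
theorem coe_mem_borel_hh (A B : Kˣ) : ((hh A B : ↥(GG K)) : GL I K) ∈ chevG2.borelSubgroup K :=
  diag_le_borel _ (hh_mem_diag A B)

theorem coe_mem_borel_wordU (t u v : K) :
    ((wordU m t u v : ↥(GG K)) : GL I K) ∈ chevG2.borelSubgroup K :=
  pos_le_borel _ (uElt_mem_pos _ _ _ _ _ _)

/-- The reflection carries `U` into the negative group. -/
theorem nn_conj_pos (t : Kˣ) {g : GL I K} (hg : g ∈ chevG2.posUnipotent K) :
    ((nn m t : ↥(GG K)) : GL I K) * g * ((nn m t : ↥(GG K)) : GL I K)⁻¹ ∈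
      chevG2.negUnipotent K := by
  rw [negUnipotent_eq_rootGen goodW.good]
  rw [posUnipotent_eq_rootGen goodW.good] at hg
  refine (monBy_nn m t).conj_rootGen (fun r hr => ?_) hg
  have hall : ∀ s : R0, half chevG2 ≤ (s : ℕ) → (revPerm s : ℕ) < half chevG2 := by decide
  exact hall r hr

theorem nn_conj_eq_one {t : Kˣ} {g : GL I K} (hg : g ∈ chevG2.posUnipotent K)
    (hb : ((nn m t : ↥(GG K)) : GL I K) * g * ((nn m t : ↥(GG K)) : GL I K)⁻¹ ∈
      chevG2.borelSubgroup K) : g = 1 := by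
  have h : ((nn m t : ↥(GG K)) : GL I K) * g * ((nn m t : ↥(GG K)) : GL I K)⁻¹ ∈
      chevG2.borelSubgroup K ⊓ chevG2.negUnipotent K :=
    Subgroup.mem_inf.2 ⟨hb, nn_conj_pos t hg⟩
  rw [borel_inf_neg goodW, Subgroup.mem_bot, conj_eq_one_iff] at h
  exact h

variable [Finite K]

theorem neg_one_not_square (hK : Nat.card K = 3 ^ (2 * m + 1)) : ¬ IsSquare (-1 : K) := by
  haveI := Fintype.ofFinite K
  rw [FiniteField.isSquare_neg_one_iff, ← Nat.card_eq_fintype_card, hK, pow_succ, pow_mul,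
    Nat.mul_mod, Nat.pow_mod]
  norm_num

variable (K) in
/-- `t ↦ (θ t)³ t⁻¹`. -/
def eHom (m : ℕ) : Kˣ →* Kˣ where
  toFun t := (t ^ 3 ^ m) ^ 3 * t⁻¹
  map_one' := by simp
  map_mul' a b := by simp only [mul_pow, mul_inv]; exact mul_mul_mul_comm _ _ _ _

theorem eHom_eq_one_iff (hK : Nat.card K = 3 ^ (2 * m + 1)) (t : Kˣ) :
    eHom K m t = 1 ↔ t = 1 ∨ t = -1 := by
  constructor
  · intro h
    have h1 : t ^ (3 ^ (m + 1) - 1) = 1 := by
      have h2 : (t ^ 3 ^ m) ^ 3 = t := mul_inv_eq_one.1 h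
      rw [← pow_mul, ← pow_succ] at h2
      refine mul_right_cancel (b := t) ?_
      rw [← pow_succ, Nat.sub_add_cancel (Nat.one_le_pow _ _ (by norm_num)), one_mul, h2]
    have h2 : t ^ (3 ^ (2 * m + 1) - 1) = 1 := by
      haveI := Fintype.ofFinite K
      rw [← hK, ← Nat.card_units]
      exact pow_card_eq_one'
    have h3 : t ^ Nat.gcd (3 ^ (m + 1) - 1) (3 ^ (2 * m + 1) - 1) = 1 := pow_gcd_eq_one.2 ⟨h1, h2⟩
    have hg : Nat.gcd (m + 1) (2 * m + 1) = 1 := by
      refine Nat.dvd_one.1 ?_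
      have a1 := Nat.gcd_dvd_left (m + 1) (2 * m + 1)
      have a2 := Nat.gcd_dvd_right (m + 1) (2 * m + 1)
      have := Nat.dvd_sub (a1.mul_left 2) a2
      rwa [show 2 * (m + 1) - (2 * m + 1) = 1 by omega] at this
    rw [Nat.pow_sub_one_gcd_pow_sub_one, hg] at h3
    norm_num at h3
    rcases sq_eq_one_iff.1 (show (t : K) ^ 2 = 1 by rw [← Units.val_pow_eq_pow_val, h3, Units.val_one])
      with h4 | h4
    · exact Or.inl (Units.ext h4)
    · exact Or.inr (Units.ext (by simpa using h4))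
  · rintro (rfl | rfl)
    · exact map_one _
    · have h1 : (-1 : Kˣ) ^ 3 ^ m = -1 := Odd.neg_one_pow (Odd.pow (by decide))
      show ((-1 : Kˣ) ^ 3 ^ m) ^ 3 * (-1)⁻¹ = 1
      rw [h1]
      simp [pow_succ]

theorem exists_eHom (hK : Nat.card K = 3 ^ (2 * m + 1)) (B : Kˣ) :
    ∃ t, eHom K m t = B ∨ eHom K m t = -B := by
  classical
  have hker : Nat.card (eHom K m).ker = 2 := by
    rw [Nat.card_eq_two_iff' (1 : (eHom K m).ker)]
    refine ⟨⟨-1, (eHom_eq_one_iff hK _).2 (Or.inr rfl)⟩,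
      fun h => neg_one_ne_one (K := K) (congrArg Subtype.val h), fun y hy => ?_⟩
    rcases (eHom_eq_one_iff hK y.1).1 y.2 with h | h
    · exact absurd (Subtype.ext h) hy
    · exact Subtype.ext h
  have hidx : (eHom K m).range.index = 2 := by
    have h := (eHom K m).ker.card_mul_index
    rw [Subgroup.index_ker, hker] at h
    have h' := (eHom K m).range.card_mul_index
    have hpos := Nat.card_pos (α := (eHom K m).range)
    nlinarith
  have hneg : (-1 : Kˣ) ∉ (eHom K m).range := by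
    rintro ⟨t, ht⟩
    have h2 : eHom K m (t * t) = 1 := by rw [map_mul, ht, neg_mul_neg, one_mul]
    rcases (eHom_eq_one_iff hK _).1 h2 with h | h
    · rcases mul_self_eq_one_iff.1 (show (t : K) * t = 1 by rw [← Units.val_mul, h, Units.val_one])
        with h' | h'
      · rw [(eHom_eq_one_iff hK _).2 (Or.inl (Units.ext h'))] at ht
        exact neg_one_ne_one (K := K) ht.symm
      · rw [(eHom_eq_one_iff hK _).2 (Or.inr (Units.ext (by simpa using h')))] at ht
        exact neg_one_ne_one (K := K) ht.symm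
    · exact neg_one_not_square hK ⟨(t : K), by rw [← Units.val_mul, h]; simp⟩
  by_cases hB : B ∈ (eHom K m).range
  · obtain ⟨t, ht⟩ := hB; exact ⟨t, Or.inl ht⟩
  · have h : -1 * B ∈ (eHom K m).range :=
      (Subgroup.mul_mem_iff_of_index_two hidx).2 (iff_of_false hneg hB)
    obtain ⟨t, ht⟩ := h
    exact ⟨t, Or.inr (by rw [ht, neg_one_mul])⟩

/-- Fixed torus elements, through `ψ`. -/
theorem fixed_hh (hK : Nat.card K = 3 ^ (2 * m + 1)) {A B : Kˣ}
    (hfix : sigma K m (hh A B) = hh A B) :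
    ∃ t : Kˣ, hh A B = psi m (dMat t) ∨ hh A B = a0 * psi m (dMat t) := by
  have hA := theta_of_fixed A B hfix
  obtain ⟨t, ht⟩ := exists_eHom hK B
  obtain ⟨A', hA'⟩ := psi_dMat m t
  have hA'B := theta_of_fixed A' _ (hA' ▸ psi_fixed hK (dMat t))
  refine ⟨t, ?_⟩
  rcases ht with ht | ht <;>
    change ((t ^ 3 ^ m) ^ 3 * t⁻¹) = _ at ht <;> rw [ht] at hA' hA'B
  · left
    rw [hA']
    exact congrArg (fun X => hh X B) (Units.ext (hA.trans hA'B.symm))
  · right
    rw [hA', a0, hh_mul]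
    have : (A : K) = -(A' : K) := by rw [hA, hA'B, Units.val_neg, theta_neg, neg_neg]
    congr 1
    · exact Units.ext (by simpa using this)
    · simp

/-- The hypothesis: the Bruhat form of a fixed element. -/
def HasForm (K : Type*) [Field K] [CharP K 3] (m : ℕ) : Prop :=
  ∀ g : ↥(GG K), sigma K m g = g →
    (∃ (t u v : K) (A B : Kˣ), g = wordU m t u v * hh A B) ∨
      ∃ (t u v : K) (A B : Kˣ) (t' u' v' : K),
        g = wordU m t u v * hh A B * nn m 1 * wordU m t' u' v'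

/-- The centraliser of the involution. -/
theorem mem_centralizer (hK : Nat.card K = 3 ^ (2 * m + 1)) (hform : HasForm K m) {g : ↥(GG K)}
    (hfix : sigma K m g = g) (hc : a0 * g = g * a0) :
    ∃ x : SL(2, K), g = psi m x ∨ g = a0 * psi m x := by
  have hconj : a0 * g * a0⁻¹ = g := mul_inv_eq_iff_eq_mul.2 hc
  have hh' : ∀ A B : Kˣ, a0 * hh A B * a0⁻¹ = hh A B := fun A B => by
    rw [mul_inv_eq_iff_eq_mul, show (a0 : ↥(GG K)) = hh (-1) (-1) from rfl, hh_mul, hh_mul, mul_comm A, mul_comm B]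
  have hnn : a0 * nn m (1 : Kˣ) * a0⁻¹ = nn m 1 := by
    rw [← psi_nMat, (a0_comm_psi _).eq, mul_inv_cancel_right]
  have hzero : ∀ t u v : K, wordU m (-t) u (-v) = wordU m t u v → t = 0 ∧ v = 0 := by
    intro t u v h
    obtain ⟨h1, -, h3⟩ := wordU_inj h
    exact ⟨(mul_eq_zero.1 (show (2 : K) * t = 0 by linear_combination -h1)).resolve_left two_ne,
      (mul_eq_zero.1 (show (2 : K) * v = 0 by linear_combination -h3)).resolve_left two_ne⟩
  have hpsiU : ∀ u : K, wordU m 0 u 0 = psi m (RankOneRel.uMat K u) := fun u => (psi_uMat m u).symm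
  have hfix' : ∀ t u v : K, sigma K m (wordU m t u v) = wordU m t u v := wordU_fixed hK
  rcases hform g hfix with ⟨t, u, v, A, B, rfl⟩ | ⟨t, u, v, A, B, t', u', v', rfl⟩
  · rw [show a0 * (wordU m t u v * hh A B) * a0⁻¹ =
      (a0 * wordU m t u v * a0⁻¹) * (a0 * hh A B * a0⁻¹) by group, a0_conj_wordU, hh',
      mul_left_inj] at hconj
    obtain ⟨rfl, rfl⟩ := hzero t u v hconj
    rw [map_mul, hfix', mul_right_inj] at hfix
    obtain ⟨s, hs | hs⟩ := fixed_hh hK hfix
    · exact ⟨_, Or.inl (by rw [hpsiU, hs, ← map_mul])⟩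
    · refine ⟨RankOneRel.uMat K u * dMat s, Or.inr ?_⟩
      rw [hpsiU, hs, ← mul_assoc, ← (a0_comm_psi _).eq, mul_assoc, ← map_mul]
  · rw [show a0 * (wordU m t u v * hh A B * nn m 1 * wordU m t' u' v') * a0⁻¹ =
      (a0 * wordU m t u v * a0⁻¹) * (a0 * hh A B * a0⁻¹) * (a0 * nn m 1 * a0⁻¹) *
        (a0 * wordU m t' u' v' * a0⁻¹) by group, a0_conj_wordU, a0_conj_wordU, hh', hnn] at hconj
    have e : nn m 1 * (wordU m (-t') u' (-v') * (wordU m t' u' v')⁻¹) * (nn m 1)⁻¹ =
        (wordU m (-t) u (-v) * hh A B)⁻¹ * (wordU m t u v * hh A B) :=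
      calc nn m 1 * (wordU m (-t') u' (-v') * (wordU m t' u' v')⁻¹) * (nn m 1)⁻¹
          = (wordU m (-t) u (-v) * hh A B)⁻¹ *
              (wordU m (-t) u (-v) * hh A B * nn m 1 * wordU m (-t') u' (-v')) *
              ((wordU m t' u' v')⁻¹ * (nn m 1)⁻¹) := by group
        _ = _ := by rw [hconj]; group
    have h1 : ((wordU m (-t') u' (-v') * (wordU m t' u' v')⁻¹ : ↥(GG K)) : GL I K) = 1 := by
      refine nn_conj_eq_one (m := m) (t := 1) ?_ ?_
      · rw [Subgroup.coe_mul, Subgroup.coe_inv]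
        exact mul_mem (uElt_mem_pos _ _ _ _ _ _) (inv_mem (uElt_mem_pos _ _ _ _ _ _))
      · have e' := congrArg (fun x : ↥(GG K) => (x : GL I K)) e
        simp only [Subgroup.coe_mul, Subgroup.coe_inv] at e' ⊢
        rw [e']
        exact mul_mem (inv_mem (mul_mem (coe_mem_borel_wordU _ _ _) (coe_mem_borel_hh A B)))
          (mul_mem (coe_mem_borel_wordU _ _ _) (coe_mem_borel_hh A B))
    have h2 : wordU m (-t') u' (-v') = wordU m t' u' v' := mul_inv_eq_one.1 (Subtype.ext h1)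
    rw [h2, mul_left_inj, mul_left_inj, mul_left_inj] at hconj
    obtain ⟨rfl, rfl⟩ := hzero t u v hconj
    obtain ⟨rfl, rfl⟩ := hzero t' u' v' h2
    have hn1 : sigma K m (nn m 1) = nn m 1 := by rw [← psi_nMat]; exact psi_fixed hK _
    rw [map_mul, map_mul, map_mul, hfix', hfix', hn1, mul_left_inj, mul_left_inj,
      mul_right_inj] at hfix
    obtain ⟨s, hs | hs⟩ := fixed_hh hK hfix
    · exact ⟨_, Or.inl (by rw [hpsiU, hpsiU, hs, ← psi_nMat, ← map_mul, ← map_mul, ← map_mul])⟩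
    · refine ⟨RankOneRel.uMat K u * dMat s * nMat 1 * RankOneRel.uMat K u', Or.inr ?_⟩
      rw [hpsiU, hpsiU, hs, ← psi_nMat]
      simp only [map_mul, ← mul_assoc]
      rw [← (a0_comm_psi (RankOneRel.uMat K u)).eq]

omit [CharP K 3] [Finite K] in
theorem lower_eq (g : SL(2, K)) (hc : g.1 1 0 = 0) :
    ∃ a : Kˣ, g = dMat a * RankOneRel.uMat K (g.1 0 1 / g.1 0 0) := by
  have hdet := RankOneRel.det_eq g
  rw [hc, mul_zero, sub_zero] at hdet
  have ha : g.1 0 0 ≠ 0 := left_ne_zero_of_mul_eq_one hdet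
  refine ⟨Units.mk0 _ ha, Subtype.ext ?_⟩
  rw [Matrix.SpecialLinearGroup.coe_mul]
  show g.1 = !![_, _; _, _] * !![_, _; _, _]
  ext p q
  fin_cases p <;> fin_cases q <;> simp [Matrix.mul_apply, Fin.sum_univ_two, hc] <;> field_simp
  linear_combination hdet

/-- The kernel of `ψ`. -/
theorem psi_eq_one_iff (hK : Nat.card K = 3 ^ (2 * m + 1)) (g : SL(2, K)) :
    psi m g = 1 ↔ g = 1 ∨ g = -1 := by
  have hneg : dMat (-1 : Kˣ) = (-1 : SL(2, K)) := by
    apply Subtype.ext
    apply Matrix.ext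
    intro p q
    fin_cases p <;> fin_cases q <;> simp [dMat]
  constructor
  · intro h
    have hdet := RankOneRel.det_eq g
    by_cases hc : g.1 1 0 = 0
    · obtain ⟨a, hg⟩ := lower_eq g hc
      rw [hg, map_mul, psi_uMat] at h
      obtain ⟨A, hA⟩ := psi_dMat m a
      rw [hA] at h
      have hd : wordU m 0 (g.1 0 1 / g.1 0 0) 0 = 1 ∧ hh A ((a ^ 3 ^ m) ^ 3 * a⁻¹) = 1 := by
        have e : hh A ((a ^ 3 ^ m) ^ 3 * a⁻¹) = (wordU m 0 (g.1 0 1 / g.1 0 0) 0)⁻¹ :=
          eq_inv_of_mul_eq_one_left h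
        have hmem : ((hh A ((a ^ 3 ^ m) ^ 3 * a⁻¹) : ↥(GG K)) : GL I K) ∈
            chevG2.posUnipotent K ⊓ chevG2.diagonalSubgroup K := by
          refine Subgroup.mem_inf.2 ⟨?_, hh_mem_diag _ _⟩
          rw [e, Subgroup.coe_inv]
          exact inv_mem (uElt_mem_pos _ _ _ _ _ _)
        rw [pos_inf_diag goodW, Subgroup.mem_bot] at hmem
        have h1 : hh A ((a ^ 3 ^ m) ^ 3 * a⁻¹) = 1 := Subtype.ext hmem
        rw [h1, one_mul] at h
        exact ⟨h, h1⟩
      have hx : g.1 0 1 / g.1 0 0 = 0 := by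
        have h00 : wordU m 0 (0 : K) 0 = 1 := by rw [wordU_zero_zero, theta_zero, xG_zero, xG_zero, one_mul]
        exact (wordU_inj (hd.1.trans h00.symm)).2.1
      have h0 : RankOneRel.uMat K (0 : K) = 1 := Subtype.ext (Matrix.one_fin_two).symm
      have hB := (hh_inj (hd.2.trans hh_one.symm)).2
      rcases (eHom_eq_one_iff hK a).1 hB with e | e
      · left
        rw [hg, hx, h0, e, mul_one]
        exact Subtype.ext (by ext p q; fin_cases p <;> fin_cases q <;> simp [dMat])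
      · right
        rw [hg, hx, h0, e, mul_one, hneg]
    · exfalso
      have hne : -1 / g.1 1 0 ≠ 0 := by simp [hc]
      set t := Units.mk0 _ hne
      have hg : g = RankOneRel.uMat K (g.1 0 0 / g.1 1 0) * nMat t *
          RankOneRel.uMat K (g.1 1 1 / g.1 1 0) := by
        apply Subtype.ext
        apply Matrix.ext
        intro p q
        fin_cases p <;> fin_cases q <;>
          simp [nMat, t, RankOneRel.uMat_val, RankOneRel.vMat_val, Matrix.mul_apply, Fin.sum_univ_two] <;>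
          field_simp <;>
          first
            | linear_combination hdet
            | linear_combination -hdet
            | ring
      rw [hg, map_mul, map_mul, psi_uMat, psi_uMat, psi_nMat] at h
      set x := wordU m 0 (g.1 0 0 / g.1 1 0) 0
      set y := wordU m 0 (g.1 1 1 / g.1 1 0) 0
      have hn : nn m t = x⁻¹ * y⁻¹ :=
        calc nn m t = x⁻¹ * (x * nn m t * y) * y⁻¹ := by group
          _ = x⁻¹ * y⁻¹ := by rw [h, mul_one]
      have hnp : ((nn m t : ↥(GG K)) : GL I K) ∈ chevG2.posUnipotent K := by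
        rw [hn, Subgroup.coe_mul, Subgroup.coe_inv, Subgroup.coe_inv]
        exact mul_mem (inv_mem (uElt_mem_pos _ _ _ _ _ _)) (inv_mem (uElt_mem_pos _ _ _ _ _ _))
      have hp : ((wordU m 0 1 0 : ↥(GG K)) : GL I K) ∈ chevG2.posUnipotent K :=
        uElt_mem_pos _ _ _ _ _ _
      have h1 := nn_conj_eq_one (m := m) (t := t) hp
        (pos_le_borel _ (mul_mem (mul_mem hnp hp) (inv_mem hnp)))
      have h00 : wordU m 0 (0 : K) 0 = 1 := by rw [wordU_zero_zero, theta_zero, xG_zero, xG_zero, one_mul]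
      have h2 : wordU m 0 (1 : K) 0 = wordU m 0 0 0 := by rw [h00]; exact Subtype.ext h1
      exact one_ne_zero (wordU_inj h2).2.1
  · rintro (rfl | rfl)
    · exact map_one _
    · rw [← hneg]
      obtain ⟨A, hA⟩ := psi_dMat m (-1 : Kˣ)
      have hfix := theta_of_fixed A _ (hA ▸ psi_fixed hK (dMat (-1 : Kˣ)))
      have hB : (((-1 : Kˣ)) ^ 3 ^ m) ^ 3 * (-1)⁻¹ = (1 : Kˣ) :=
        (eHom_eq_one_iff hK (-1)).2 (Or.inr rfl)
      rw [hB] at hA hfix
      rw [Units.val_one, theta_one] at hfix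
      rw [hA, show A = 1 from Units.ext hfix, hh_one]

theorem psi_ne_a0 (hK : Nat.card K = 3 ^ (2 * m + 1)) (x : SL(2, K)) : psi m x ≠ a0 := by
  intro h
  have hcen : psi m (x * RankOneRel.uMat K 1 * (RankOneRel.uMat K 1 * x)⁻¹) = 1 := by
    rw [map_mul, map_inv, mul_inv_eq_one, map_mul, map_mul, h, (a0_comm_psi _).eq]
  have hdet := RankOneRel.det_eq x
  have hl : (x * RankOneRel.uMat K 1).1 = x.1 * !![1, 1; 0, 1] := rfl
  have hr : (RankOneRel.uMat K 1 * x).1 = !![1, 1; 0, 1] * x.1 := rfl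
  rcases (psi_eq_one_iff hK _).1 hcen with e | e <;> rw [mul_inv_eq_iff_eq_mul] at e
  · rw [one_mul] at e
    have e00 := congrArg (fun M : SL(2, K) => M.1 0 0) e
    have e01 := congrArg (fun M : SL(2, K) => M.1 0 1) e
    simp only [hl, hr, Matrix.mul_apply, Fin.sum_univ_two] at e00 e01
    simp at e00 e01
    obtain ⟨a, hx⟩ := lower_eq x e00
    have ha : (a : K) = x.1 0 0 := by
      have := congrArg (fun M : SL(2, K) => M.1 0 0) hx
      rw [show (dMat a * RankOneRel.uMat K (x.1 0 1 / x.1 0 0)).1 =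
        !![(a : K), 0; 0, ((a⁻¹ : Kˣ) : K)] * !![1, x.1 0 1 / x.1 0 0; 0, 1] from rfl] at this
      simpa [Matrix.mul_apply, Fin.sum_univ_two] using this.symm
    have h2 : (a : K) * a = 1 := by
      rw [e00, mul_zero, sub_zero] at hdet
      rw [ha]
      linear_combination hdet + x.1 0 0 * e01
    have hd : psi m (dMat a) = 1 := by
      refine (psi_eq_one_iff hK _).2 ?_
      rcases mul_self_eq_one_iff.1 h2 with h' | h'
      · exact Or.inl (Subtype.ext (by ext p q; fin_cases p <;> fin_cases q <;> simp [dMat, Units.val_inv_eq_inv_val, h']))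
      · exact Or.inr (Subtype.ext (by ext p q; fin_cases p <;> fin_cases q <;> simp [dMat, Units.val_inv_eq_inv_val, h']))
    rw [hx, map_mul, hd, one_mul, psi_uMat] at h
    have hmem : ((a0 : ↥(GG K)) : GL I K) ∈ chevG2.posUnipotent K ⊓ chevG2.diagonalSubgroup K :=
      Subgroup.mem_inf.2 ⟨h ▸ uElt_mem_pos _ _ _ _ _ _, hh_mem_diag _ _⟩
    rw [pos_inf_diag goodW, Subgroup.mem_bot] at hmem
    exact a0_ne_one (K := K) (Subtype.ext hmem)
  · rw [neg_mul, one_mul] at e
    have e00 := congrArg (fun M : SL(2, K) => M.1 0 0) e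
    have e10 := congrArg (fun M : SL(2, K) => M.1 1 0) e
    simp only [Matrix.SpecialLinearGroup.coe_neg, Matrix.neg_apply, hl, hr, Matrix.mul_apply,
      Fin.sum_univ_two] at e00 e10
    simp at e00 e10
    have hc : x.1 1 0 = 0 :=
      (mul_eq_zero.1 (show (2 : K) * x.1 1 0 = 0 by linear_combination e10)).resolve_left two_ne
    have ha : x.1 0 0 = 0 :=
      (mul_eq_zero.1 (show (2 : K) * x.1 0 0 = 0 by linear_combination e00 - hc)).resolve_left two_ne
    simp [hc, ha] at hdet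

end CfsgLib.ReeG2Sylow
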