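import Cfsg.Agent.ReeG2Sylow.Iso
import Cfsg.Agent.ReeG2Sylow.Normalizer
import Cfsg.Agent.Linear.SL2Sylow

/-!
Sylow 2-subgroups of the small Ree group, given its order and the Bruhat form.
-/

set_option autoImplicit false
set_option linter.unusedSectionVars false
set_option linter.style.haveILetI false

namespace CfsgLib.ReeG2Sylow

open Cfsg.Lie CfsgLib.Chevalley CfsgLib.ReeG2
open scoped MatrixGroups

variable {K : Type*} [Field K] [Fintype K] [CharP K 3] {m : ℕ}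

theorem card_mod_eight (hK : Fintype.card K = 3 ^ (2 * m + 1)) : Fintype.card K % 8 = 3 := by
  rw [hK, pow_succ, pow_mul, Nat.mul_mod, Nat.pow_mod]
  norm_num

theorem finite_twisted : Finite ↥(twistedG2 K (3 ^ m)) :=
  Finite.of_injective (fun g : ↥(twistedG2 K (3 ^ m)) => ((g : GL I K) : Matrix I I K))
    fun _ _ h => Subtype.ext (Units.ext h)

theorem order_two_part {q : ℕ} (h : q % 8 = 3) :
    ∃ r, q ^ 3 * (q - 1) * (q ^ 3 + 1) = 2 ^ 3 * r ∧ ¬ 2 ∣ r := by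
  obtain ⟨t, rfl⟩ : ∃ t, q = 8 * t + 3 := ⟨q / 8, by omega⟩
  refine ⟨(8 * t + 3) ^ 3 * (4 * t + 1) * ((2 * t + 1) * ((8 * t + 3) * (8 * t + 2) + 1)), ?_, ?_⟩
  · rw [show 8 * t + 3 - 1 = 2 * (4 * t + 1) by omega]
    ring
  · simp only [← even_iff_two_dvd, Nat.even_mul, Nat.even_pow, Nat.even_add]
    simp [parity_simps]

theorem card_centralizer_aT (hK : Fintype.card K = 3 ^ (2 * m + 1)) (hform : HasForm K m) :
    ∃ r, Nat.card ↥(Subgroup.centralizer ({aT K m} : Set ↥(twistedG2 K (3 ^ m)))) = 2 ^ 3 * r ∧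
      ¬ 2 ∣ r := by
  obtain ⟨Φ⟩ := centralizer_aT_equiv (by rw [Nat.card_eq_fintype_card, hK]) hform
  rw [Nat.card_congr Φ.toEquiv, Nat.card_prod, show Nat.card (Multiplicative (ZMod 2)) = 2 by simp]
  have h8 := card_mod_eight hK
  rw [Linear.card_PSL_two_odd (F := K) (Nat.odd_iff.2 (by omega))]
  obtain ⟨t, ht⟩ : ∃ t, Fintype.card K = 8 * t + 3 := ⟨Fintype.card K / 8, by omega⟩
  rw [ht]
  refine ⟨(8 * t + 3) * ((4 * t + 1) * (2 * t + 1)), ?_, ?_⟩
  · have : (8 * t + 3) ^ 2 = 8 * ((4 * t + 1) * (2 * t + 1)) + 1 := by ring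
    rw [this, Nat.add_sub_cancel]
    ring
  · simp only [← even_iff_two_dvd, Nat.even_mul, Nat.even_add]
    simp [parity_simps]

theorem sylow_two (hK : Fintype.card K = 3 ^ (2 * m + 1)) (hform : HasForm K m)
    (hcard : Nat.card ↥(twistedG2 K (3 ^ m)) =
      Fintype.card K ^ 3 * (Fintype.card K - 1) * (Fintype.card K ^ 3 + 1))
    (S : Sylow 2 ↥(twistedG2 K (3 ^ m))) :
    Nat.card (S : Subgroup ↥(twistedG2 K (3 ^ m))) = 8 ∧
      ∀ x ∈ (S : Subgroup ↥(twistedG2 K (3 ^ m))), x * x = 1 := by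
  haveI := finite_twisted (K := K) (m := m)
  haveI : Fact (Nat.Prime 2) := ⟨Nat.prime_two⟩
  have h8 := card_mod_eight hK
  obtain ⟨r, hr, hrodd⟩ := order_two_part h8
  have hS : ∀ T : Sylow 2 ↥(twistedG2 K (3 ^ m)),
      Nat.card (T : Subgroup ↥(twistedG2 K (3 ^ m))) = 2 ^ 3 := fun T =>
    Linear.card_sylow_of_card_eq 2 (hcard.trans hr) hrodd T
  refine ⟨hS S, ?_⟩
  obtain ⟨Φ⟩ := centralizer_aT_equiv (by rw [Nat.card_eq_fintype_card, hK]) hform
  obtain ⟨r', hr', hr'odd⟩ := card_centralizer_aT hK hform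
  set C := Subgroup.centralizer ({aT K m} : Set ↥(twistedG2 K (3 ^ m))) with hC
  obtain ⟨P⟩ : Nonempty (Sylow 2 C) := inferInstance
  have hP := Linear.card_sylow_of_card_eq 2 hr' hr'odd P
  have hPsq : ∀ x ∈ (P : Subgroup C), x * x = 1 := by
    intro x hx
    set P2 := (P : Subgroup C).map ((MonoidHom.snd _ _).comp Φ.toMonoidHom) with hP2
    obtain ⟨Q, hQ⟩ := (P.2.map ((MonoidHom.snd _ _).comp Φ.toMonoidHom)).exists_le_sylow
    have hv := Small.kleinFour_mul_self (Linear.isKleinFour_sylow_PSL_two (Or.inl h8) Q)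
      (hQ ⟨x, hx, rfl⟩)
    refine Φ.injective (Prod.ext ?_ ?_)
    · rw [map_mul, map_one, Prod.fst_mul, Prod.fst_one]
      generalize (Φ x).1 = z
      exact (congrArg Multiplicative.ofAdd (CharTwo.add_self_eq_zero (Multiplicative.toAdd z)) :)
    · rw [map_mul, map_one, Prod.snd_mul, Prod.snd_one]
      exact hv
  let T : Sylow 2 ↥(twistedG2 K (3 ^ m)) := Sylow.ofCard ((P : Subgroup C).map C.subtype) (by
    rw [Subgroup.card_map_of_injective C.subtype_injective, hP, ← hS (Classical.arbitrary _),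
      Sylow.card_eq_multiplicity])
  have hT : ∀ y : T, y * y = 1 := by
    rintro ⟨_, x, hx, rfl⟩
    refine Subtype.ext ?_
    show C.subtype x * C.subtype x = 1
    rw [← map_mul, hPsq x hx, map_one]
  intro x hx
  exact congrArg Subtype.val ((Sylow.equiv S T).injective (a₁ := ⟨x, hx⟩ * ⟨x, hx⟩) (a₂ := 1)
    (by rw [map_mul, map_one, hT]))

theorem small_ree_centralizer_involution (hK : Fintype.card K = 3 ^ (2 * m + 1))
    (hform : HasForm K m)
    (hcard : Nat.card ↥(twistedG2 K (3 ^ m)) =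
      Fintype.card K ^ 3 * (Fintype.card K - 1) * (Fintype.card K ^ 3 + 1))
    (a : ↥(twistedG2 K (3 ^ m)))
    (haH : (a : GL I K) ∈ chevG2.diagonalSubgroup K) (ha1 : a ≠ 1) (ha2 : a * a = 1) :
    Nonempty (↥(Subgroup.centralizer ({a} : Set ↥(twistedG2 K (3 ^ m)))) ≃*
        Multiplicative (ZMod 2) × Matrix.ProjectiveSpecialLinearGroup (Fin 2) K) ∧
      ∀ S : Sylow 2 ↥(twistedG2 K (3 ^ m)),
        Nat.card S = 8 ∧ ∀ x ∈ S, x * x = 1 := by
  have hK' : Nat.card K = 3 ^ (2 * m + 1) := by rw [Nat.card_eq_fintype_card, hK]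
  obtain rfl := eq_aT_of_diag hK' haH ha1 ha2
  exact ⟨centralizer_aT_equiv hK' hform, fun S => sylow_two hK hform hcard S⟩

theorem small_ree_sylow_two_normalizer (hK : Fintype.card K = 3 ^ (2 * m + 1))
    (hform : HasForm K m)
    (hcard : Nat.card ↥(twistedG2 K (3 ^ m)) =
      Fintype.card K ^ 3 * (Fintype.card K - 1) * (Fintype.card K ^ 3 + 1))
    (hperf : commutator ↥(twistedG2 K (3 ^ m)) = ⊤)
    (S : Sylow 2 ↥(twistedG2 K (3 ^ m))) :
    Subgroup.centralizer ((S : Subgroup ↥(twistedG2 K (3 ^ m))) : Set ↥(twistedG2 K (3 ^ m))) = S ∧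
      Nat.card (Subgroup.normalizer
        ((S : Subgroup ↥(twistedG2 K (3 ^ m))) : Set ↥(twistedG2 K (3 ^ m)))) = 168 := by
  haveI := finite_twisted (K := K) (m := m)
  obtain ⟨Φ⟩ := centralizer_aT_equiv (by rw [Nat.card_eq_fintype_card, hK]) hform
  obtain ⟨h8, hsq⟩ := sylow_two hK hform hcard S
  have h := main hperf S h8 hsq (card_mod_eight hK) (aT_ne_one (K := K) (m := m)) aT_mul_self Φ
  exact ⟨h.1, h.2.1⟩

end CfsgLib.ReeG2Sylow
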