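import Cfsg.Agent.ReeG2Sylow.Centralizer

/-!
The centraliser of the torus involution in the twisted group is `Z₂ × PSL₂(K)`.
-/

set_option autoImplicit false
set_option linter.unusedSectionVars false

namespace CfsgLib.ReeG2Sylow

open Cfsg.Lie CfsgLib.Chevalley CfsgLib.ReeG2
open scoped MatrixGroups

variable {K : Type*} [Field K]

theorem negIdx_rev : ∀ r : Fin 12, chevG2.negIdx.getD (r : ℕ) 0 = ((r.rev : Fin 12) : ℕ) := by decide

theorem nu_wordG : ∀ w : List (ℕ × K), (∀ p ∈ w, p.1 < 12) →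
    nu K (wordG w) = wordG (chevG2.negWord w)
  | [], _ => map_one _
  | p :: w, hw => by
    obtain ⟨r, t⟩ := p
    have hr : r < 12 := hw (r, t) List.mem_cons_self
    have ih := nu_wordG w fun q hq => hw q (List.mem_cons_of_mem _ hq)
    simp only [ChevalleyDatum.negWord, wordG, List.map_cons, List.prod_cons, List.map_map] at ih ⊢
    rw [map_mul, ih]
    congr 1
    rw [dif_pos hr, nu_xG, dif_pos (show chevG2.negIdx.getD r 0 < 12 by
      rw [negIdx_rev ⟨r, hr⟩]; exact Fin.isLt _)]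
    congr 1
    exact Fin.ext (negIdx_rev ⟨r, hr⟩).symm

theorem reeWordU_lt (e : ℕ) (t u v : K) : ∀ p ∈ reeWordU e t u v, p.1 < 12 := by
  intro p hp
  simp only [reeWordU, g2a, g2b, g2ab, g2aab, g2aaab, g2aaabb, List.mem_cons, List.not_mem_nil,
    or_false] at hp
  rcases hp with rfl | rfl | rfl | rfl | rfl | rfl <;> norm_num

variable [CharP K 3] {m : ℕ}

theorem wordU_eq_wordG (t u v : K) : wordU m t u v = wordG (reeWordU (3 ^ m) t u v) :=
  Subtype.ext (Units.ext (by rw [coe_wordU, coe_wordG, coe_wordGL]))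

theorem coe_nu_wordU (t u v : K) :
    (((nu K (wordU m t u v) : ↥(GG K)) : GL I K) : Matrix I I K) =
      chevG2.wordMat K (reeWordV (3 ^ m) t u v) := by
  rw [wordU_eq_wordG, nu_wordG _ (reeWordU_lt _ t u v), coe_wordG, coe_wordGL]
  rfl

theorem wordU_mem (t u v : K) : ((wordU m t u v : ↥(GG K)) : GL I K) ∈ twistedG2 K (3 ^ m) :=
  Subgroup.subset_closure ⟨_, ⟨t, u, v, Or.inl rfl⟩, coe_wordU m t u v⟩

theorem nu_wordU_mem (t u v : K) :
    ((nu K (wordU m t u v) : ↥(GG K)) : GL I K) ∈ twistedG2 K (3 ^ m) :=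
  Subgroup.subset_closure ⟨_, ⟨t, u, v, Or.inr rfl⟩, coe_nu_wordU t u v⟩

theorem twistedG2_le_fixG [Finite K] (hK : Nat.card K = 3 ^ (2 * m + 1)) :
    twistedG2 K (3 ^ m) ≤ fixG K m := by
  refine (Subgroup.closure_le _).2 ?_
  rintro g ⟨w, ⟨t, u, v, rfl | rfl⟩, hg⟩
  · rw [show g = ((wordU m t u v : ↥(GG K)) : GL I K) from
      Units.ext (hg.trans (coe_wordU m t u v).symm)]
    exact coe_mem_fixG.2 (wordU_fixed hK t u v)
  · rw [show g = ((nu K (wordU m t u v) : ↥(GG K)) : GL I K) from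
      Units.ext (hg.trans (coe_nu_wordU t u v).symm)]
    exact coe_mem_fixG.2 (by rw [sigma_nu, wordU_fixed hK])

theorem psi_mem (x : SL(2, K)) : ((psi m x : ↥(GG K)) : GL I K) ∈ twistedG2 K (3 ^ m) := by
  have hx : x ∈ Submonoid.closure (Set.range (RankOneRel.uMat K) ∪ {RankOneRel.wMat K}) :=
    RankOneRel.closure_eq_top (F := K) ▸ Submonoid.mem_top x
  refine (Submonoid.closure_le
    (S := ((twistedG2 K (3 ^ m)).comap ((GG K).subtype.comp (psi m))).toSubmonoid)).2 ?_ hx
  have hu : ∀ t, ((psi m (RankOneRel.uMat K t) : ↥(GG K)) : GL I K) ∈ twistedG2 K (3 ^ m) := fun t => by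
    rw [psi_uMat]; exact wordU_mem 0 t 0
  rintro y (⟨t, rfl⟩ | rfl)
  · exact hu t
  · show ((psi m (RankOneRel.wMat K) : ↥(GG K)) : GL I K) ∈ twistedG2 K (3 ^ m)
    rw [show RankOneRel.wMat K =
        RankOneRel.uMat K 1 * RankOneRel.vMat K (-1) * RankOneRel.uMat K 1 from by
      apply Subtype.ext
      apply Matrix.ext
      intro p q
      fin_cases p <;> fin_cases q <;>
        simp [RankOneRel.uMat_val, RankOneRel.vMat_val, RankOneRel.wMat_val, Matrix.mul_apply,
          Fin.sum_univ_two], map_mul, map_mul, psi_vMat, psi_uMat]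
    exact mul_mem (mul_mem (wordU_mem 0 1 0) (nu_wordU_mem _ _ _)) (wordU_mem 0 1 0)

variable (m) in
theorem a0_mem : ((a0 : ↥(GG K)) : GL I K) ∈ twistedG2 K (3 ^ m) := by
  rw [a0, ← hh_neg_one m]
  exact mul_mem (mul_mem (mul_mem (wordU_mem 0 0 1) (nu_wordU_mem 0 0 1)) (wordU_mem 1 1 1))
    (nu_wordU_mem _ _ _)

variable (K) in
/-- The involution in the twisted group. -/
def aT (m : ℕ) : ↥(twistedG2 K (3 ^ m)) := ⟨((a0 : ↥(GG K)) : GL I K), a0_mem m⟩

theorem aT_ne_one : aT K m ≠ 1 := fun h =>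
  a0_ne_one (K := K) (Subtype.ext (show ((a0 : ↥(GG K)) : GL I K) = 1 from congrArg Subtype.val h))

theorem aT_mul_self : aT K m * aT K m = 1 := by
  refine Subtype.ext ?_
  show ((a0 * a0 : ↥(GG K)) : GL I K) = 1
  rw [a0_mul_self]
  rfl

theorem eq_aT_of_diag [Finite K] (hK : Nat.card K = 3 ^ (2 * m + 1))
    {a : ↥(twistedG2 K (3 ^ m))} (haH : (a : GL I K) ∈ chevG2.diagonalSubgroup K) (ha1 : a ≠ 1)
    (ha2 : a * a = 1) : a = aT K m := by
  obtain ⟨A, B, hAB⟩ := exists_hh haH
  have hfix : sigma K m (hh A B) = hh A B := by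
    refine coe_mem_fixG.1 ?_
    rw [hAB]
    exact twistedG2_le_fixG hK a.2
  have hA := theta_of_fixed A B hfix
  have hsq : hh (A * A) (B * B) = hh (1 : Kˣ) 1 := by
    rw [← hh_mul, hh_one]
    refine Subtype.ext ?_
    rw [Subgroup.coe_mul, hAB]
    exact congrArg Subtype.val ha2
  have hB := congrArg Units.val (hh_inj hsq).2
  rw [Units.val_mul, Units.val_one, mul_self_eq_one_iff] at hB
  rcases hB with hB | hB
  · refine absurd (Subtype.ext ?_) ha1
    rw [← hAB, show B = 1 from Units.ext hB,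
      show A = 1 from Units.ext (by rw [hA, hB, theta_one, Units.val_one]), hh_one]
    rfl
  · refine Subtype.ext ?_
    rw [← hAB, show B = -1 from Units.ext (by simpa using hB),
      show A = -1 from Units.ext (by rw [hA, hB, theta_neg, theta_one]; simp)]
    rfl

omit [CharP K 3] in
theorem mem_center_iff_pm [Finite K] (x : SL(2, K)) :
    x ∈ Subgroup.center SL(2, K) ↔ x = 1 ∨ x = -1 := by
  constructor
  · intro hx
    have hl := congrArg Subtype.val (Subgroup.mem_center_iff.1 hx (RankOneRel.uMat K 1))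
    have hm := congrArg Subtype.val (Subgroup.mem_center_iff.1 hx (RankOneRel.vMat K 1))
    change (!![1, 1; 0, 1] : Matrix (Fin 2) (Fin 2) K) * x.1 = x.1 * !![1, 1; 0, 1] at hl
    change (!![1, 0; 1, 1] : Matrix (Fin 2) (Fin 2) K) * x.1 = x.1 * !![1, 0; 1, 1] at hm
    have e1 := congrFun (congrFun hl 0) 0
    have e2 := congrFun (congrFun hl 0) 1
    have e3 := congrFun (congrFun hm 0) 0
    simp [Matrix.mul_apply, Fin.sum_univ_two] at e1 e2 e3
    have hdet := RankOneRel.det_eq x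
    rw [e1, mul_zero, sub_zero] at hdet
    have h2 : x.1 0 0 * x.1 0 0 = 1 := by linear_combination hdet - x.1 0 0 * e2
    rcases mul_self_eq_one_iff.1 h2 with h | h
    · refine Or.inl (Subtype.ext ?_)
      ext p q
      fin_cases p <;> fin_cases q <;> simp [h, e1, e3]
      linear_combination e2 + h
    · refine Or.inr (Subtype.ext ?_)
      ext p q
      fin_cases p <;> fin_cases q <;> simp [h, e1, e3]
      linear_combination e2 + h
  · rintro (rfl | rfl)
    · exact one_mem _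
    · exact Subgroup.mem_center_iff.2 fun y => by rw [mul_neg, neg_mul, mul_one, one_mul]

theorem centralizer_aT_equiv [Finite K] (hK : Nat.card K = 3 ^ (2 * m + 1)) (hform : HasForm K m) :
    Nonempty (↥(Subgroup.centralizer ({aT K m} : Set ↥(twistedG2 K (3 ^ m)))) ≃*
      Multiplicative (ZMod 2) × Matrix.ProjectiveSpecialLinearGroup (Fin 2) K) := by
  classical
  set C := Subgroup.centralizer ({aT K m} : Set ↥(twistedG2 K (3 ^ m))) with hC
  have hcomm : ∀ x : SL(2, K), (⟨((psi m x : ↥(GG K)) : GL I K), psi_mem x⟩ : ↥(twistedG2 K (3 ^ m))) ∈ C :=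
    fun x => Subgroup.mem_centralizer_singleton_iff.2 (Subtype.ext (by
      show ((psi m x * a0 : ↥(GG K)) : GL I K) = ((a0 * psi m x : ↥(GG K)) : GL I K)
      rw [(a0_comm_psi x).eq]))
  let ρ : SL(2, K) →* C :=
    { toFun := fun x => ⟨⟨((psi m x : ↥(GG K)) : GL I K), psi_mem x⟩, hcomm x⟩
      map_one' := Subtype.ext (Subtype.ext (by simp))
      map_mul' := fun x y => Subtype.ext (Subtype.ext (by simp)) }
  have hρ : ∀ x, ρ x = 1 → psi m x = 1 := fun x h =>
    Subtype.ext (congrArg (fun y : C => ((y : ↥(twistedG2 K (3 ^ m))) : GL I K)) h)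
  let ρ' : Matrix.ProjectiveSpecialLinearGroup (Fin 2) K →* C :=
    QuotientGroup.lift (Subgroup.center SL(2, K)) ρ fun x hx => MonoidHom.mem_ker.2 (by
      refine Subtype.ext (Subtype.ext ?_)
      show ((psi m x : ↥(GG K)) : GL I K) = 1
      rw [(psi_eq_one_iff hK x).2 ((mem_center_iff_pm x).1 hx)]
      rfl)
  let a' : C := ⟨aT K m, Subgroup.mem_centralizer_singleton_iff.2 rfl⟩
  have ha' : a' * a' = 1 := Subtype.ext aT_mul_self
  have hz : ∀ z : Multiplicative (ZMod 2), z = 1 ∨ z = Multiplicative.ofAdd 1 := fun z => by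
    have h : ∀ i : ZMod 2, i = 0 ∨ i = 1 := by decide
    exact (h (Multiplicative.toAdd z)).imp (fun h => congrArg Multiplicative.ofAdd h)
      (fun h => congrArg Multiplicative.ofAdd h)
  have hne : (Multiplicative.ofAdd (1 : ZMod 2)) ≠ 1 := by
    intro h
    exact one_ne_zero (congrArg Multiplicative.toAdd h)
  have hmul : Multiplicative.ofAdd (1 : ZMod 2) * Multiplicative.ofAdd 1 = 1 := rfl
  let φ : Multiplicative (ZMod 2) →* C := MonoidHom.mk' (fun z => if z = 1 then 1 else a') (by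
    intro y z
    rcases hz y with rfl | rfl <;> rcases hz z with rfl | rfl <;> simp [hne, hmul, ha'])
  have hφ1 : φ (Multiplicative.ofAdd 1) = a' :=
    (if_neg hne : (if Multiplicative.ofAdd (1 : ZMod 2) = 1 then (1 : C) else a') = a')
  have hφρ : ∀ z q, Commute (φ z) (ρ' q) := fun z q => by
    show Commute (if z = 1 then 1 else a') (ρ' q)
    split_ifs
    · exact Commute.one_left _
    · exact Subtype.ext (Subgroup.mem_centralizer_singleton_iff.1 (ρ' q).2).symm
  refine ⟨(MulEquiv.ofBijective (MonoidHom.noncommCoprod φ ρ' hφρ) ⟨?_, fun g => ?_⟩).symm⟩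
  · rw [injective_iff_map_eq_one]
    rintro ⟨z, q⟩ h
    obtain ⟨x, rfl⟩ := QuotientGroup.mk'_surjective _ q
    rw [MonoidHom.noncommCoprod_apply] at h
    rcases hz z with rfl | rfl
    · rw [map_one, one_mul] at h
      refine Prod.ext rfl ((QuotientGroup.eq_one_iff x).2 ?_)
      exact (mem_center_iff_pm x).2 ((psi_eq_one_iff hK x).1 (hρ x h))
    · exfalso
      have h1 : (a' * ρ x : C) = 1 := by
        rw [hφ1] at h
        exact h
      have h2 : ρ x = a' := by
        rw [← inv_eq_of_mul_eq_one_right h1]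
        exact inv_eq_of_mul_eq_one_right ha'
      exact psi_ne_a0 hK x
        (Subtype.ext (congrArg (fun y : C => ((y : ↥(twistedG2 K (3 ^ m))) : GL I K)) h2))
  · have hfixg := twistedG2_le_fixG hK g.1.2
    obtain ⟨hmem, hfix⟩ := mem_fixG.1 hfixg
    have hca : a0 * (⟨g.1.1, hmem⟩ : ↥(GG K)) = ⟨g.1.1, hmem⟩ * a0 := Subtype.ext
      (congrArg Subtype.val (Subgroup.mem_centralizer_singleton_iff.1 g.2)).symm
    obtain ⟨x, hx | hx⟩ := mem_centralizer hK hform hfix hca
    · refine ⟨(1, QuotientGroup.mk' _ x), ?_⟩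
      rw [MonoidHom.noncommCoprod_apply, map_one, one_mul]
      exact Subtype.ext (Subtype.ext (congrArg Subtype.val hx).symm)
    · refine ⟨(Multiplicative.ofAdd 1, QuotientGroup.mk' _ x), ?_⟩
      rw [MonoidHom.noncommCoprod_apply, hφ1]
      exact Subtype.ext (Subtype.ext (congrArg Subtype.val hx).symm)

end CfsgLib.ReeG2Sylow
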