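import Cfsg.Agent.ReeG2.Torus
import Cfsg.Agent.Chevalley.RankOne

/-!
The homomorphism from `SL₂(K)` into the fixed points of `σ`: `g ↦ φ_{a+b}(θ g) φ_{3a+b}(g)`.
-/

set_option autoImplicit false
set_option linter.unusedSectionVars false

namespace CfsgLib.ReeG2Sylow

open Cfsg.Lie CfsgLib.Chevalley CfsgLib.ReeG2
open scoped MatrixGroups

variable {K : Type*} [Field K]

/-- A group homomorphism is determined by the two root groups. -/
theorem sl2_ext {M : Type*} [Monoid M] {f f' : SL(2, K) →* M}
    (hu : ∀ t, f (RankOneRel.uMat K t) = f' (RankOneRel.uMat K t))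
    (hv : ∀ t, f (RankOneRel.vMat K t) = f' (RankOneRel.vMat K t)) : f = f' := by
  have hw : RankOneRel.wMat K =
      RankOneRel.uMat K 1 * RankOneRel.vMat K (-1) * RankOneRel.uMat K 1 := by
    apply Subtype.ext
    apply Matrix.ext
    intro p q
    fin_cases p <;> fin_cases q <;>
      simp [RankOneRel.uMat_val, RankOneRel.vMat_val, RankOneRel.wMat_val, Matrix.mul_apply,
        Fin.sum_univ_two]
  refine MonoidHom.ext fun g => ?_
  have hg : g ∈ Submonoid.closure (Set.range (RankOneRel.uMat K) ∪ {RankOneRel.wMat K}) :=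
    RankOneRel.closure_eq_top (F := K) ▸ Submonoid.mem_top g
  refine MonoidHom.eqOn_closureM ?_ hg
  rintro x (⟨t, rfl⟩ | rfl)
  · exact hu t
  · rw [hw, map_mul, map_mul, map_mul, map_mul, hu, hv]

/-- The diagonal element. -/
def dMat (t : Kˣ) : SL(2, K) :=
  ⟨!![(t : K), 0; 0, ((t⁻¹ : Kˣ) : K)], by simp [Matrix.det_fin_two_of]⟩

/-- The monomial element. -/
def nMat (t : Kˣ) : SL(2, K) :=
  RankOneRel.uMat K (t : K) * RankOneRel.vMat K (-((t⁻¹ : Kˣ) : K)) * RankOneRel.uMat K (t : K)

theorem nMat_mul (t : Kˣ) : nMat t * nMat (-1) = dMat t := by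
  apply Subtype.ext
  apply Matrix.ext
  intro p q
  fin_cases p <;> fin_cases q <;>
    simp [nMat, dMat, RankOneRel.uMat_val, RankOneRel.vMat_val, Matrix.mul_apply, Fin.sum_univ_two]

/-- The homomorphism at a root, into the group. -/
noncomputable def phi (r : R0) : SL(2, K) →* ↥(GG K) :=
  (exists_sl2Hom (F := K) goodW r).choose.codRestrict (GG K) fun g => by
    obtain ⟨hu, hv⟩ := (exists_sl2Hom (F := K) goodW r).choose_spec
    have hg : g ∈ Submonoid.closure (Set.range (RankOneRel.uMat K) ∪ {RankOneRel.wMat K}) :=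
      RankOneRel.closure_eq_top (F := K) ▸ Submonoid.mem_top g
    refine (Submonoid.closure_le (S := (GG K).toSubmonoid.comap _)).2 ?_ hg
    rintro x (⟨t, rfl⟩ | rfl)
    · show _ ∈ GG K
      rw [hu]
      exact X2_mem r t
    · show _ ∈ GG K
      rw [show RankOneRel.wMat K =
          RankOneRel.uMat K 1 * RankOneRel.vMat K (-1) * RankOneRel.uMat K 1 from by
        apply Subtype.ext
        apply Matrix.ext
        intro p q
        fin_cases p <;> fin_cases q <;>
          simp [RankOneRel.uMat_val, RankOneRel.vMat_val, RankOneRel.wMat_val, Matrix.mul_apply,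
            Fin.sum_univ_two], map_mul, map_mul, hu, hv]
      exact mul_mem (mul_mem (X2_mem r 1) (X2_mem r.rev (-1))) (X2_mem r 1)

theorem phi_uMat (r : R0) (t : K) : phi r (RankOneRel.uMat K t) = xG r t :=
  Subtype.ext ((exists_sl2Hom (F := K) goodW r).choose_spec.1 t)

theorem phi_vMat (r : R0) (t : K) : phi r (RankOneRel.vMat K t) = xG r.rev t :=
  Subtype.ext ((exists_sl2Hom (F := K) goodW r).choose_spec.2 t)

/-- The elements commuting with a root pair commute with the whole image. -/
theorem commute_phi {r : R0} {z : ↥(GG K)} (hu : ∀ t, Commute z (xG r t))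
    (hv : ∀ t, Commute z (xG r.rev t)) (g : SL(2, K)) : Commute z (phi r g) := by
  have h := sl2_ext (f := ((MulAut.conj z).toMonoidHom.comp (phi r))) (f' := phi r)
    (fun t => by
      show z * phi r _ * z⁻¹ = _
      rw [phi_uMat, (hu t).eq, mul_inv_cancel_right])
    (fun t => by
      show z * phi r _ * z⁻¹ = _
      rw [phi_vMat, (hv t).eq, mul_inv_cancel_right])
  exact mul_inv_eq_iff_eq_mul.1 (DFunLike.congr_fun h g)

variable [CharP K 3]

theorem commute_phi_phi (g k : SL(2, K)) : Commute (phi (rt 8) g) (phi (rt 10) k) := by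
  have c8 : ∀ x y : K, Commute (xG (rt 8) x) (xG (rt 10) y) := fun x y =>
    comm_tail (rt 10) (rt 8) (by decide) (by decide) y x
  have c81 : ∀ x y : K, Commute (xG (rt 8) x) (xG (rt 10).rev y) := fun x y =>
    comm_of_dvd (rt 10).rev (rt 8) (by decide) (by decide) (by decide +kernel) y x
  have c310 : ∀ x y : K, Commute (xG (rt 8).rev x) (xG (rt 10) y) := fun x y =>
    comm_of_dvd (rt 10) (rt 8).rev (by decide) (by decide) (by decide +kernel) y x
  have c31 : ∀ x y : K, Commute (xG (rt 8).rev x) (xG (rt 10).rev y) := fun x y =>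
    comm_of_dvd (rt 10).rev (rt 8).rev (by decide) (by decide) (by decide +kernel) y x
  refine commute_phi (fun y => ?_) (fun y => ?_) k
  · exact (commute_phi (z := xG (rt 10) y) (fun x => (c8 x y).symm) (fun x => (c310 x y).symm) g).symm
  · exact (commute_phi (z := xG (rt 10).rev y) (fun x => (c81 x y).symm) (fun x => (c31 x y).symm) g).symm

variable (K) in
/-- `θ` as a homomorphism of the field. -/
def thetaHom (m : ℕ) : K →+* K where
  toFun := theta m
  map_one' := theta_one m
  map_mul' := theta_mul m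
  map_zero' := theta_zero m
  map_add' := theta_add m

/-- The embedding of `SL₂`. -/
noncomputable def psi (m : ℕ) : SL(2, K) →* ↥(GG K) where
  toFun g := phi (rt 8) (Matrix.SpecialLinearGroup.map (thetaHom K m) g) * phi (rt 10) g
  map_one' := by rw [map_one, map_one, map_one, mul_one]
  map_mul' g k := by
    rw [map_mul, map_mul, map_mul, mul_assoc, ← mul_assoc (phi (rt 8) _) (phi (rt 10) g),
      (commute_phi_phi _ g).eq]
    simp only [mul_assoc]

theorem psi_apply (m : ℕ) (g : SL(2, K)) :
    psi m g = phi (rt 8) (Matrix.SpecialLinearGroup.map (thetaHom K m) g) * phi (rt 10) g := rfl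

theorem map_uMat (m : ℕ) (t : K) :
    Matrix.SpecialLinearGroup.map (thetaHom K m) (RankOneRel.uMat K t) =
      RankOneRel.uMat K (theta m t) := by
  ext i j
  fin_cases i <;> fin_cases j <;>
    simp [RankOneRel.uMat_val, thetaHom, theta_one, theta_zero]

theorem map_vMat (m : ℕ) (t : K) :
    Matrix.SpecialLinearGroup.map (thetaHom K m) (RankOneRel.vMat K t) =
      RankOneRel.vMat K (theta m t) := by
  ext i j
  fin_cases i <;> fin_cases j <;>
    simp [RankOneRel.vMat_val, thetaHom, theta_one, theta_zero]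

theorem wordU_zero_zero (m : ℕ) (t : K) :
    wordU m 0 t 0 = xG (rt 8) (theta m t) * xG (rt 10) t := by
  simp [wordU, uElt, tail, theta_zero, xG_zero]

theorem psi_uMat (m : ℕ) (t : K) : psi m (RankOneRel.uMat K t) = wordU m 0 t 0 := by
  rw [psi_apply, map_uMat, phi_uMat, phi_uMat, wordU_zero_zero]

theorem psi_vMat (m : ℕ) (t : K) : psi m (RankOneRel.vMat K t) = nu K (wordU m 0 (-t) 0) := by
  rw [psi_apply, map_vMat, phi_vMat, phi_vMat, wordU_zero_zero, map_mul, nu_xG, nu_xG, theta_neg,
    neg_neg, neg_neg]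

theorem psi_nMat (m : ℕ) (t : Kˣ) : psi m (nMat t) = nn m t := by
  rw [nMat, map_mul, map_mul, psi_uMat, psi_vMat, neg_neg, nn_eq]

theorem psi_dMat (m : ℕ) (t : Kˣ) :
    ∃ A : Kˣ, psi m (dMat t) = hh A ((t ^ 3 ^ m) ^ 3 * t⁻¹) := by
  obtain ⟨A, hA⟩ := hT_eq_hh_square m t
  exact ⟨A, by rw [← nMat_mul, map_mul, psi_nMat, psi_nMat, hA]⟩

variable [Finite K] {m : ℕ}

theorem psi_fixed (hK : Nat.card K = 3 ^ (2 * m + 1)) (g : SL(2, K)) :
    sigma K m (psi m g) = psi m g := by
  refine DFunLike.congr_fun (sl2_ext (f := (sigma K m).comp (psi m)) (f' := psi m)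
    (fun t => ?_) fun t => ?_) g
  · show sigma K m (psi m _) = _
    rw [psi_uMat, wordU_fixed hK]
  · show sigma K m (psi m _) = _
    rw [psi_vMat, sigma_nu, wordU_fixed hK]

/-- A fixed torus element. -/
theorem theta_of_fixed (A B : Kˣ) :
    sigma K m (hh A B) = hh A B → (A : K) = theta m (B : K) := by
  intro hfix
  have h := congrArg (sigma K m) (hh_conj A B (rt 6) 1)
  rw [map_mul, map_mul, map_inv, hfix, sigma_xG, sigma_xG] at h
  have hb : bar (rt 6) = rt 7 := by decide
  have hl : lam (rt 6) = 1 := by decide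
  rw [hb, hl, pow_one, pow_one, mul_one, theta_one, (chi_table A B).2.1, hh_conj,
    (chi_table A B).1, mul_one] at h
  exact X_injective good_chevG2 _ (congrArg Subtype.val h)

end CfsgLib.ReeG2Sylow
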